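import Mathlib.GroupTheory.Nilpotent
import Mathlib.Algebra.BigOperators.Group.Finset.Basic
import Mathlib.Data.Fintype.BigOperators
import Mathlib.Tactic.Group

/-!
# Averaging in nilpotent groups with unique roots
-/

set_option autoImplicit false

universe u v

namespace Groth.L01.MultConj

/-- Uniqueness and existence of roots of order `n`. -/
def Roots (G : Type u) [Group G] (n : ℕ) : Prop := ∀ u : G, ∃! w : G, w ^ n = u

variable {H : Type v} [Group H] [Fintype H]

/-- A twisted translate. -/
def dd {G : Type u} [Group G] (act : H → G → G) (c : H → G) (x : G) (h : H) : G := x⁻¹ * c h * act h x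

/-- One step of the averaging process. -/
noncomputable def step {G : Type u} [Group G] (rt : G → G) (act : H → G → G) (c : H → G) (x : G) : G :=
  x * rt (((Finset.univ : Finset H).toList.map (dd act c x)).prod)

theorem step_map {G G' : Type*} [Group G] [Group G'] (f : G →* G') {rt : G → G} {rt' : G' → G'}
    {act : H → G → G} {act' : H → G' → G'} {c : H → G} {c' : H → G'} (hrt : ∀ g, f (rt g) = rt' (f g))
    (hact : ∀ h g, f (act h g) = act' h (f g)) (hc : ∀ h, f (c h) = c' h) (x : G) :
    f (step rt act c x) = step rt' act' c' (f x) := by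
  rw [step, step, map_mul, hrt, map_list_prod, List.map_map]
  congr 3
  refine List.map_congr_left fun h _ => ?_
  simp [dd, map_inv, hact, hc]

theorem Roots.mem_center {G : Type u} [Group G] {n : ℕ} (hr : Roots G n) {w : G} (h : w ^ n ∈ Subgroup.center G) :
    w ∈ Subgroup.center G := by
  rw [Subgroup.mem_center_iff]
  intro g
  have h1 : (g * w * g⁻¹) ^ n = w ^ n := by
    rw [conj_pow, Subgroup.mem_center_iff.1 h g, mul_inv_cancel_right]
  exact mul_inv_eq_iff_eq_mul.1 ((hr (w ^ n)).unique h1 rfl)

theorem Roots.quotient {G : Type u} [Group G] {n : ℕ} (hr : Roots G n) :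
    Roots (G ⧸ Subgroup.center G) n := by
  intro u
  obtain ⟨x, rfl⟩ := QuotientGroup.mk_surjective u
  obtain ⟨w, hw, -⟩ := hr x
  refine ⟨QuotientGroup.mk w, by show (QuotientGroup.mk w : G ⧸ Subgroup.center G) ^ n = _; rw [← QuotientGroup.mk_pow, hw], fun y hy => ?_⟩
  obtain ⟨v, rfl⟩ := QuotientGroup.mk_surjective y
  rw [← hw] at hy
  have hz : (v ^ n)⁻¹ * w ^ n ∈ Subgroup.center G := QuotientGroup.eq.1 (by simpa using hy)
  obtain ⟨z, hzn, -⟩ := hr ((v ^ n)⁻¹ * w ^ n)
  have hzc : z ∈ Subgroup.center G := hr.mem_center (hzn ▸ hz)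
  have h1 : (v * z) ^ n = w ^ n := by
    rw [Commute.mul_pow (Subgroup.mem_center_iff.1 hzc v), hzn, mul_inv_cancel_left]
  have h2 : v * z = w := (hr (w ^ n)).unique h1 rfl
  exact QuotientGroup.eq.2 (by rw [← h2, inv_mul_cancel_left]; exact hzc)

theorem iterate_fix (G : Type u) [Group G] [Group.IsNilpotent G] :
    ∀ (rt : G → G), (∀ g, rt g ^ Fintype.card H = g) → Roots G (Fintype.card H) →
      ∀ (act : H →* MulAut G) (c : H → G), (∀ g h, c (g * h) = c g * act g (c h)) →
        ∃ m, ∀ x h, dd (fun h => act h) c ((step rt (fun h => act h) c)^[m] x) h = 1 := by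
  classical
  refine Group.nilpotent_center_quotient_ind
    (P := fun G [Group G] [Group.IsNilpotent G] =>
      ∀ (rt : G → G), (∀ g, rt g ^ Fintype.card H = g) → Roots G (Fintype.card H) →
      ∀ (act : H →* MulAut G) (c : H → G), (∀ g h, c (g * h) = c g * act g (c h)) →
        ∃ m, ∀ x h, dd (fun h => act h) c ((step rt (fun h => act h) c)^[m] x) h = 1) G
    (fun G _ _ => fun _ _ _ _ _ _ => ⟨0, fun _ _ => Subsingleton.elim _ _⟩) ?_
  · intro G _ _ ih
    intro rt hrt hr act c hc
    let Z := Subgroup.center G
    letI : CommGroup Z := { (inferInstance : Group Z) with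
      mul_comm := fun a b => Subtype.ext (Subgroup.mem_center_iff.1 b.2 a.1) }
    let q : G →* G ⧸ Z := QuotientGroup.mk' Z
    have hZ : ∀ h, Z.map (act h : G →* G) = Z := fun h =>
      Subgroup.characteristic_iff_map_eq.1 (inferInstance : (Subgroup.center G).Characteristic) (act h)
    let act' : H →* MulAut (G ⧸ Z) :=
      { toFun := fun h => QuotientGroup.congr Z Z (act h) (hZ h)
        map_one' := MulEquiv.ext fun y => by
          obtain ⟨g, rfl⟩ := QuotientGroup.mk_surjective y
          simp [QuotientGroup.congr_mk]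
        map_mul' := fun a b => MulEquiv.ext fun y => by
          obtain ⟨g, rfl⟩ := QuotientGroup.mk_surjective y
          simp [QuotientGroup.congr_mk] }
    have hact : ∀ h g, q (act h g) = act' h (q g) := fun h g => rfl
    have hr' := hr.quotient
    choose rt' hrt' using fun y => (hr' y).exists
    have hrtq : ∀ g, q (rt g) = rt' (q g) := fun g =>
      (hr' (q g)).unique (by rw [← map_pow, hrt]) (hrt' _)
    obtain ⟨m, hm⟩ := ih rt' hrt' hr' act' (fun h => q (c h))
      (fun g h => by show q (c (g * h)) = _; rw [hc, map_mul, hact])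
    refine ⟨m + 1, fun x h => ?_⟩
    rw [Function.iterate_succ_apply']
    set y := (step rt (fun h => act h) c)^[m] x with hy
    have hqy : q y = (step rt' (fun h => act' h) (fun h => q (c h)))^[m] (q x) :=
      Function.Semiconj.iterate_right (step_map q hrtq hact fun _ => rfl) m x
    have hd : ∀ l, dd (fun h => act h) c y l ∈ Z := fun l => by
      rw [← QuotientGroup.eq_one_iff]
      show q (y⁻¹ * c l * act l y) = 1
      rw [map_mul, map_mul, map_inv, hact, hqy]
      exact hm (q x) l
    let d : H → Z := fun l => ⟨dd (fun h => act h) c y l, hd l⟩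
    set P : G := ((Finset.univ : Finset H).toList.map (dd (fun h => act h) c y)).prod with hP
    have hPd : P = ((∏ l, d l : Z) : G) := by
      rw [← Finset.prod_map_toList, ← Subgroup.subtype_apply, map_list_prod, List.map_map, hP]
      rfl
    let z := rt P
    have hzn : z ^ Fintype.card H = P := hrt P
    have hz : z ∈ Z := hr.mem_center (by rw [hzn, hPd]; exact (∏ l, d l).2)
    have hcomm : ∀ a ∈ Z, ∀ b : G, a * b = b * a := fun a ha b => (Subgroup.mem_center_iff.1 ha b).symm
    have hcoc : ∀ a l, dd (fun h => act h) c y (a * l) =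
        dd (fun h => act h) c y a * act a (dd (fun h => act h) c y l) := fun a l => by
      simp only [dd, hc, map_mul, map_inv, MulAut.mul_apply]
      group
    have key : dd (fun h => act h) c y h * act h z = z := by
      refine (hr P).unique ?_ hzn
      rw [Commute.mul_pow (hcomm _ (hd h) _), ← map_pow, hzn, hPd]
      have h1 : ∀ l, (d (h * l) : G) = (d h : G) * act h (d l : G) := fun l => hcoc h l
      let φ : Z →* Z := ((act h : G →* G).comp Z.subtype).codRestrict Z fun a =>
        (hZ h).le ⟨a.1, a.2, rfl⟩
      have h2 : ∀ l, d (h * l) = d h * φ (d l) := fun l => Subtype.ext (h1 l)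
      show (d h : G) ^ Fintype.card H * (φ (∏ l, d l) : G) = _
      rw [← SubgroupClass.coe_pow, ← Subgroup.coe_mul, map_prod, ← Finset.card_univ, ← Finset.prod_const,
        ← Finset.prod_mul_distrib]
      congr 1
      simp only [← h2]
      exact Equiv.prod_comp (Equiv.mulLeft h) d
    show (y * z)⁻¹ * c h * act h (y * z) = 1
    rw [map_mul]
    calc (y * z)⁻¹ * c h * (act h y * act h z) = z⁻¹ * (dd (fun h => act h) c y h * act h z) := by
          simp only [dd]; group
      _ = 1 := by rw [key, inv_mul_cancel]

theorem step_of_fix {G : Type u} [Group G] {rt : G → G} {n : ℕ} (hr : Roots G n) (hrt : ∀ g, rt g ^ n = g)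
    {act : H → G → G} {c : H → G} {x : G} (hx : ∀ h, dd act c x h = 1) : step rt act c x = x := by
  have h1 : ((Finset.univ : Finset H).toList.map (dd act c x)).prod = 1 := by
    refine List.prod_eq_one fun a ha => ?_
    obtain ⟨h, -, rfl⟩ := List.mem_map.1 ha
    exact hx h
  rw [step, h1, show rt 1 = 1 from (hr 1).unique (hrt 1) (one_pow n), mul_one]

end Groth.L01.MultConj
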