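import Groth.Agent.L01.MultByUnip.ConnBase
import Groth.Agent.L08.Points
import Groth.Agent.L08.Cube.NP.UnitsProd
import Groth.Agent.L25.GeomRed
import Groth.Prelude.Def_SGA3
import Mathlib.RingTheory.Trace.Basic
import Mathlib.FieldTheory.Normal.Closure
import Mathlib.FieldTheory.Galois.Basic
import Mathlib.FieldTheory.Perfect
import Mathlib.RingTheory.FiniteStability

/-!
# Galois descent, additive Hilbert 90 and density of points over perfect fields
-/

set_option autoImplicit false

universe u

open TensorProduct WithConv Groth.L08 Groth.L01.MultByUnip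

noncomputable section

namespace Groth.L01.MultConj

variable {k : Type u} [Field k] {K : Type u} [Field K] [Algebra k K] [Normal k K] [PerfectField k]

/-- A Galois stable subspace is spanned by its rational elements. -/
theorem mem_span_fixed {M : Type u} [CommRing M] [Algebra k M] (V : Submodule K (K ⊗[k] M))
    (hV : ∀ (σ : K ≃ₐ[k] K), ∀ z ∈ V, conjT K M σ z ∈ V) {z : K ⊗[k] M} (hz : z ∈ V) :
    z ∈ Submodule.span K {w : K ⊗[k] M | w ∈ V ∧ ∃ m : M, (1 : K) ⊗ₜ[k] m = w} := by
  classical
  set S := {w : K ⊗[k] M | w ∈ V ∧ ∃ m : M, (1 : K) ⊗ₜ[k] m = w}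
  let bK := Algebra.TensorProduct.basis K (Module.Basis.ofVectorSpace k M)
  suffices H : ∀ n z, z ∈ V → (bK.repr z).support.card = n → z ∈ Submodule.span K S from H _ z hz rfl
  intro n
  induction n using Nat.strong_induction_on with
  | _ n ih =>
    intro z hz hn
    by_cases h0 : z = 0
    · rw [h0]; exact zero_mem _
    obtain ⟨i, hi⟩ : (bK.repr z).support.Nonempty :=
      Finsupp.support_nonempty_iff.2 fun h => h0 (bK.repr.injective (by rw [h, map_zero]))
    by_cases hsmall : ∃ w ∈ V, w ≠ 0 ∧ (bK.repr w).support ⊂ (bK.repr z).support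
    · obtain ⟨w, hw, hw0, hss⟩ := hsmall
      obtain ⟨j, hj⟩ : (bK.repr w).support.Nonempty :=
        Finsupp.support_nonempty_iff.2 fun h => hw0 (bK.repr.injective (by rw [h, map_zero]))
      let c := bK.repr z j / bK.repr w j
      have hwmem : w ∈ Submodule.span K S := ih _ (hn ▸ Finset.card_lt_card hss) w hw rfl
      have hlt : (bK.repr (z - c • w)).support ⊂ (bK.repr z).support := by
        refine Finset.ssubset_iff_of_subset (fun l hl => ?_) |>.2 ⟨j, hss.1 hj, ?_⟩
        · by_contra hlz
          have h1 := Finsupp.notMem_support_iff.1 hlz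
          have h2 := Finsupp.notMem_support_iff.1 fun h => hlz (hss.1 h)
          simp [h1, h2] at hl
        · rw [Finsupp.notMem_support_iff, map_sub, map_smul, Finsupp.sub_apply, Finsupp.smul_apply, smul_eq_mul,
            div_mul_cancel₀ _ (Finsupp.mem_support_iff.1 hj), sub_self]
      have h3 := ih _ (hn ▸ Finset.card_lt_card hlt) (z - c • w)
        (V.sub_mem hz (V.smul_mem c hw)) rfl
      have h4 := add_mem h3 (Submodule.smul_mem _ c hwmem)
      rwa [sub_add_cancel] at h4
    · let z' := (bK.repr z i)⁻¹ • z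
      have hne := Finsupp.mem_support_iff.1 hi
      have hfix : ∀ σ : K ≃ₐ[k] K, conjT K M σ z' = z' := by
        intro σ
        by_contra hne'
        refine hsmall ⟨conjT K M σ z' - z', V.sub_mem (hV σ _ (V.smul_mem _ hz)) (V.smul_mem _ hz),
          sub_ne_zero.2 hne', ?_⟩
        have hval : ∀ l, bK.repr (conjT K M σ z' - z') l = σ (bK.repr z' l) - bK.repr z' l := fun l => by
          rw [map_sub, Finsupp.sub_apply, repr_conjT]
        refine Finset.ssubset_iff_of_subset (fun l hl => ?_) |>.2 ⟨i, hi, ?_⟩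
        · by_contra hlz
          rw [Finsupp.mem_support_iff, hval] at hl
          simp [z', Finsupp.notMem_support_iff.1 hlz] at hl
        · rw [Finsupp.notMem_support_iff, hval]
          simp [z', inv_mul_cancel₀ hne]
      haveI : Algebra.IsAlgebraic k K := Normal.toIsAlgebraic
      obtain ⟨m, hm⟩ := mem_range_of_fixed_perfect hfix
      have h5 : z' ∈ Submodule.span K S := Submodule.subset_span ⟨V.smul_mem _ hz, m, hm⟩
      have h6 := Submodule.smul_mem _ (bK.repr z i) h5
      rwa [show bK.repr z i • z' = z by simp [z', smul_smul, mul_inv_cancel₀ hne]] at h6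

/-- Additive Hilbert 90 for cocycles determined by finitely many values. -/
theorem exists_coboundary (b : (K ≃ₐ[k] K) → K) (hb : ∀ τ σ, b (τ * σ) = b τ + τ (b σ)) (s : Finset K)
    (hs : ∀ τ σ : K ≃ₐ[k] K, (∀ x ∈ s, τ x = σ x) → b τ = b σ) : ∃ β : K, ∀ τ, b τ = β - τ β := by
  classical
  haveI : Algebra.IsAlgebraic k K := Normal.toIsAlgebraic
  let L₀ := IntermediateField.adjoin k (s : Set K)
  haveI : FiniteDimensional k L₀ := IntermediateField.finiteDimensional_adjoin fun x _ => Algebra.IsIntegral.isIntegral x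
  let L := IntermediateField.normalClosure k L₀ K
  haveI : FiniteDimensional k L := inferInstance
  haveI : Normal k L := inferInstance
  haveI : Algebra.IsSeparable k L := inferInstance
  haveI : IsGalois k L := ⟨⟩
  obtain ⟨θ, hθ⟩ := Algebra.trace_surjective k L 1
  have hL : ∀ x ∈ s, x ∈ L := fun x hx =>
    IntermediateField.le_normalClosure L₀ (IntermediateField.subset_adjoin k _ hx)
  choose lift hlift using fun σ : L ≃ₐ[k] L =>
    (AlgEquiv.restrictNormalHom_surjective (F := k) (K₁ := L) K σ)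
  have hres : ∀ (τ : K ≃ₐ[k] K) (x : L), ((τ.restrictNormal L x : L) : K) = τ (x : K) := fun τ x =>
    AlgEquiv.restrictNormal_commutes τ L x
  have hext : ∀ τ σ : K ≃ₐ[k] K, τ.restrictNormal L = σ.restrictNormal L → b τ = b σ := fun τ σ h =>
    hs τ σ fun x hx => by
      rw [← hres τ ⟨x, hL x hx⟩, h, hres]
  refine ⟨∑ σ : L ≃ₐ[k] L, b (lift σ) * ((σ θ : L) : K), fun τ => ?_⟩
  let τ' := τ.restrictNormal L
  have h1 : ∀ σ : L ≃ₐ[k] L, τ (b (lift σ) * ((σ θ : L) : K)) =
      (b (lift (τ' * σ)) - b τ) * (((τ' * σ) θ : L) : K) := by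
    intro σ
    have h2 : b (lift (τ' * σ)) = b τ + τ (b (lift σ)) := by
      rw [← hb]
      refine hext _ _ ?_
      show AlgEquiv.restrictNormalHom L (lift (τ' * σ)) = AlgEquiv.restrictNormalHom L (τ * lift σ)
      rw [hlift, map_mul, hlift]
      rfl
    rw [map_mul, h2, add_sub_cancel_left, ← hres τ]
    rfl
  have hsum : ∑ σ : L ≃ₐ[k] L, ((σ θ : L) : K) = 1 := by
    have h3 := congrArg (fun t : L => (t : K)) ((trace_eq_sum_automorphisms (K := k) θ).symm.trans ((congrArg _ hθ).trans (map_one _)))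
    simpa using h3
  rw [map_sum, Finset.sum_congr rfl fun σ _ => h1 σ,
    show ∑ σ, (b (lift (τ' * σ)) - b τ) * (((τ' * σ) θ : L) : K) = ∑ σ, (b (lift σ) - b τ) * ((σ θ : L) : K) from
      Equiv.sum_comp (Equiv.mulLeft τ') fun σ => (b (lift σ) - b τ) * ((σ θ : L) : K)]
  simp only [sub_mul, Finset.sum_sub_distrib, ← Finset.mul_sum, hsum, mul_one, sub_sub_cancel]

omit [Normal k K] [PerfectField k] in
/-- An element of a base change evaluated at a point. -/
def atPt {A : Type u} [CommRing A] [Algebra k A] (v : A →ₐ[k] K) : K ⊗[k] A →ₐ[K] K :=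
  Algebra.TensorProduct.lift (AlgHom.id K K) v fun _ _ => Commute.all _ _

omit [Normal k K] [PerfectField k] in
theorem atPt_tmul {A : Type u} [CommRing A] [Algebra k A] (v : A →ₐ[k] K) (c : K) (a : A) :
    atPt v (c ⊗ₜ[k] a) = c * v a := by
  simp [atPt]

variable [IsAlgClosed K]

omit [Normal k K] in
/-- A reduced algebra of finite type over a perfect field: the geometric points are dense. -/
theorem eq_zero_of_points {A : Type u} [CommRing A] [Algebra k A] [Algebra.FiniteType k A] [IsReduced A]
    {z : K ⊗[k] A} (h : ∀ v : A →ₐ[k] K, atPt v z = 0) : z = 0 := by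
  haveI : IsReduced (K ⊗[k] A) := Groth.L25.GeomRed.isReduced_tensorProduct
  refine Groth.L08.Cube.NP.eq_zero_of_forall_point (k := K) fun w => ?_
  have hw : w = atPt ((w.restrictScalars k).comp Algebra.TensorProduct.includeRight) := by
    refine Algebra.TensorProduct.ext (Algebra.ext_id _ _ _) (AlgHom.ext fun a => ?_)
    simp [atPt]
  rw [hw]
  exact h _

omit [Normal k K] in
theorem eq_zero_of_points' {A : Type u} [CommRing A] [Algebra k A] [Algebra.FiniteType k A] [IsReduced A]
    {a : A} (h : ∀ v : A →ₐ[k] K, v a = 0) : a = 0 :=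
  Algebra.TensorProduct.includeRight_injective (A := K) (algebraMap k K).injective
    ((eq_zero_of_points (z := (1 : K) ⊗ₜ[k] a) fun v => by rw [atPt_tmul, h, mul_zero]).trans (map_zero _).symm)

omit [Normal k K] in
/-- Pairs of geometric points are dense. -/
theorem eq_zero_of_points₂ {A A' : Type u} [CommRing A] [Algebra k A] [Algebra.FiniteType k A] [IsReduced A]
    [CommRing A'] [Algebra k A'] [Algebra.FiniteType k A'] [IsReduced A'] {z : A ⊗[k] A'}
    (h : ∀ (v : A →ₐ[k] K) (w : A' →ₐ[k] K),
      Algebra.TensorProduct.lift v w (fun _ _ => Commute.all _ _) z = 0) : z = 0 := by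
  haveI : IsReduced (A ⊗[k] A') := Groth.L25.GeomRed.isReduced_tensorProduct
  haveI : Algebra.FiniteType A (A ⊗[k] A') := Algebra.FiniteType.baseChange (R := k) (A := A') A
  haveI : Algebra.FiniteType k (A ⊗[k] A') := Algebra.FiniteType.trans ‹Algebra.FiniteType k A› ‹Algebra.FiniteType A (A ⊗[k] A')›
  refine eq_zero_of_points' (k := k) (K := K) fun x => ?_
  have hx : x = Algebra.TensorProduct.lift (x.comp Algebra.TensorProduct.includeLeft)
      (x.comp Algebra.TensorProduct.includeRight) (fun _ _ => Commute.all _ _) := by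
    refine Algebra.TensorProduct.ext (AlgHom.ext fun a => ?_) (AlgHom.ext fun a => ?_) <;> simp
  rw [hx]
  exact h _ _

variable {A : Type u} [CommRing A] [HopfAlgebra k A] [Algebra.FiniteType k A]

omit [Normal k K] in
/-- A radical ideal whose geometric points form a subgroup is a Hopf ideal. -/
theorem isHopfIdeal_of_points (I : Ideal A) [IsReduced (A ⧸ I)]
    (h1 : ∀ a ∈ I, Coalgebra.counit (R := k) a = 0)
    (hmul : ∀ v w : WithConv (A →ₐ[k] K), (∀ a ∈ I, v.ofConv a = 0) → (∀ a ∈ I, w.ofConv a = 0) →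
      ∀ a ∈ I, (v * w).ofConv a = 0)
    (hinv : ∀ v : WithConv (A →ₐ[k] K), (∀ a ∈ I, v.ofConv a = 0) → ∀ a ∈ I, (pinv v).ofConv a = 0) :
    I.IsHopfIdeal k := by
  haveI : Algebra.FiniteType k (A ⧸ I) :=
    Algebra.FiniteType.of_surjective (Ideal.Quotient.mkₐ k I) Ideal.Quotient.mk_surjective
  let π := Ideal.Quotient.mkₐ k I
  have hk : ∀ (v : A ⧸ I →ₐ[k] K), ∀ a ∈ I, v (π a) = 0 := fun v a ha => by
    rw [show π a = 0 from Ideal.Quotient.eq_zero_iff_mem.2 ha, map_zero]
  refine { toIsCoideal := ⟨h1, fun x hx => ?_⟩, antipode_mem := fun x hx => ?_ }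
  · show Algebra.TensorProduct.map π π (Coalgebra.comul (R := k) x) = 0
    refine eq_zero_of_points₂ (K := K) fun v w => ?_
    have h2 := hmul (toConv (v.comp π)) (toConv (w.comp π)) (hk v) (hk w) x hx
    rw [AlgHom.convMul_apply] at h2
    rw [← h2]
    induction Coalgebra.comul (R := k) x with
    | zero => simp
    | add p q hp hq => simp only [map_add, hp, hq]
    | tmul p q => simp [π]
  · rw [← Ideal.Quotient.eq_zero_iff_mem]
    exact eq_zero_of_points' (K := K) fun v => hinv (toConv (v.comp π)) (hk v) x hx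

omit [Normal k K] in
/-- Normality can be tested on geometric points. -/
theorem isNormalHopfIdeal_of_points (I : Ideal A) [IsReduced A] [IsReduced (A ⧸ I)]
    (h : ∀ g n : WithConv (A →ₐ[k] K), (∀ a ∈ I, n.ofConv a = 0) → ∀ a ∈ I, (g * n * pinv g).ofConv a = 0) :
    SGA3.IsNormalHopfIdeal k A I := by
  haveI : Algebra.FiniteType k (A ⧸ I) :=
    Algebra.FiniteType.of_surjective (Ideal.Quotient.mkₐ k I) Ideal.Quotient.mk_surjective
  intro R _ _ g n hn a ha
  let π := Ideal.Quotient.mkₐ k I
  let X : WithConv (A →ₐ[k] A ⊗[k] (A ⧸ I)) := toConv Algebra.TensorProduct.includeLeft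
  let Y : WithConv (A →ₐ[k] A ⊗[k] (A ⧸ I)) := toConv (Algebra.TensorProduct.includeRight.comp π)
  have hz : (X * Y * pinv X).ofConv a = 0 := by
    refine eq_zero_of_points₂ (K := K) fun v w => ?_
    let φ : A ⊗[k] (A ⧸ I) →ₐ[k] K := Algebra.TensorProduct.lift v w fun _ _ => Commute.all _ _
    have e : toConv (φ.comp (X * Y * pinv X).ofConv) = toConv v * toConv (w.comp π) * pinv (toConv v) := by
      have hp : ∀ x y : WithConv (A →ₐ[k] A ⊗[k] (A ⧸ I)), toConv (φ.comp (x * y).ofConv) =
          toConv (φ.comp x.ofConv) * toConv (φ.comp y.ofConv) := fun x y =>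
        WithConv.ofConv_injective (AlgHom.comp_convMul_distrib φ x y)
      have hX : toConv (φ.comp X.ofConv) = toConv v := WithConv.ofConv_injective (AlgHom.ext fun b => by simp [φ, X])
      have hY : toConv (φ.comp Y.ofConv) = toConv (w.comp π) :=
        WithConv.ofConv_injective (AlgHom.ext fun b => by simp [φ, Y])
      rw [hp, hp, show toConv (φ.comp (pinv X).ofConv) = pinv (toConv (φ.comp X.ofConv)) from rfl, hX, hY]
    show φ ((X * Y * pinv X).ofConv a) = 0
    refine (congrArg (fun t : WithConv (A →ₐ[k] K) => t.ofConv a) e).trans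
      (h (toConv v) (toConv (w.comp π)) (fun b hb => ?_) a ha)
    show w (π b) = 0
    rw [show π b = 0 from Ideal.Quotient.eq_zero_iff_mem.2 hb, map_zero]
  let φ : A ⊗[k] (A ⧸ I) →ₐ[k] R :=
    Algebra.TensorProduct.lift g (Ideal.Quotient.liftₐ I n hn) fun _ _ => Commute.all _ _
  have hp : ∀ x y : WithConv (A →ₐ[k] A ⊗[k] (A ⧸ I)), toConv (φ.comp (x * y).ofConv) =
      toConv (φ.comp x.ofConv) * toConv (φ.comp y.ofConv) := fun x y =>
    WithConv.ofConv_injective (AlgHom.comp_convMul_distrib φ x y)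
  have hX : toConv (φ.comp X.ofConv) = toConv g := WithConv.ofConv_injective (AlgHom.ext fun b => by simp [φ, X])
  have hY : toConv (φ.comp Y.ofConv) = toConv n := WithConv.ofConv_injective (AlgHom.ext fun b => by simp [φ, Y, π] <;> rfl)
  have e : φ ((X * Y * pinv X).ofConv a) = (toConv g * toConv n * pinv (toConv g)).ofConv a := by
    show (toConv (φ.comp (X * Y * pinv X).ofConv)).ofConv a = _
    rw [hp, hp, show toConv (φ.comp (pinv X).ofConv) = pinv (toConv (φ.comp X.ofConv)) from rfl, hX, hY]
  rw [hz, map_zero] at e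
  refine Eq.trans ?_ e.symm
  exact congrArg (fun t : WithConv (A →ₐ[k] R) => t.ofConv a)
    (Groth.L08.toConv_conv3 g n (g.comp (HopfAlgebra.antipodeAlgHom k A)))

end Groth.L01.MultConj
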