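import Groth.Agent.L01.MultConj.GoodPrim
import Groth.Agent.L08.CartierRed

/-!
# Existence of additive functions with connected smooth kernel
-/

set_option autoImplicit false

universe u

open TensorProduct WithConv Groth.L08 Groth.L01.MultByUnip Groth.L01.MultDescent
open Groth.L01.SmoothKer (IsPrim)

attribute [local instance] Groth.L01.MultDescent.ptGroup

noncomputable section

namespace Groth.L01.MultConj

variable {k : Type u} [Field k] {K : Type u} [Field K] [Algebra k K] [IsAlgClosed K]
variable {C : Type u} [CommRing C] [HopfAlgebra k C] [Algebra.FiniteType k C]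

/-- A connected reduced group over an algebraically closed extension is integral. -/
theorem isDomain_of_connected [Normal k K] [IsReduced (K ⊗[k] C)]
    (hconn : ∀ e : C, IsIdempotentElem e → e = 0 ∨ e = 1) : IsDomain (K ⊗[k] C) := by
  haveI : (⊥ : Ideal (K ⊗[k] C)).IsPrime := by
    have h := KrullHopf.nilradical_isPrime K (A := K ⊗[k] C)
      fun e he => eq_zero_or_one_of_idempotent (Bialgebra.counitAlgHom k C) hconn he
    rwa [nilradical_eq_zero (K ⊗[k] C)] at h
  exact IsDomain.of_bot_isPrime _

/-- The nilradical of a connected group is prime. -/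
theorem nilradical_isPrime_baseChange [Normal k K] (hconn : ∀ e : C, IsIdempotentElem e → e = 0 ∨ e = 1) :
    (nilradical (K ⊗[k] C)).IsPrime :=
  KrullHopf.nilradical_isPrime K fun e he => eq_zero_or_one_of_idempotent (Bialgebra.counitAlgHom k C) hconn he

variable [Normal k K] [PerfectField k]

/-- A non-trivial connected smooth unipotent group over a perfect field maps to the additive group with
connected smooth kernel. -/
theorem exists_good [IsDomain (K ⊗[k] C)] (hU : HopfRep.IsUnipotent k C)
    (hne : RingHom.ker (Bialgebra.counitAlgHom k C) ≠ ⊥) :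
    ∃ f : C, IsPrim (k := k) f ∧ f ≠ 0 ∧ IsDomain (K ⊗[k] (C ⧸ Ideal.span {f})) := by
  classical
  haveI : IsNoetherianRing C := Algebra.FiniteType.isNoetherianRing k C
  haveI : (⊥ : Ideal C).IsHopfIdeal k := by
    refine { toIsCoideal := ⟨fun x hx => ?_, fun x hx => ?_⟩, antipode_mem := fun x hx => ?_ }
    · rw [(Submodule.mem_bot _).1 hx, map_zero]
    · rw [(Submodule.mem_bot _).1 hx, map_zero, map_zero]
    · rw [Ideal.mem_bot.1 hx, map_zero]; exact zero_mem _
  obtain ⟨x, hx0, hx⟩ := (Groth.Agent.S3264.result k C).1 hU ⊥ fun h => hne h.symm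
  obtain ⟨f₀, rfl⟩ := Ideal.Quotient.mk_surjective x
  have hf₀ : IsPrim (k := k) f₀ := by
    let π := Bialgebra.Quotient.mkBialgHom (R := k) (⊥ : Ideal C)
    have hπ : Function.Injective π := fun a b h => by
      have := Ideal.Quotient.eq.1 (show Ideal.Quotient.mk (⊥ : Ideal C) a = Ideal.Quotient.mk ⊥ b from h)
      exact sub_eq_zero.1 ((Ideal.mem_bot).1 this)
    apply TensorProduct.map_injective_of_flat_flat (π : C →ₗ[k] C ⧸ (⊥ : Ideal C)) (π : C →ₗ[k] C ⧸ (⊥ : Ideal C)) hπ hπ
    refine (CoalgHomClass.map_comp_comul_apply π f₀).trans (hx.trans ?_)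
    simp only [map_add, TensorProduct.map_tmul]
    rfl
  have hf₀0 : f₀ ≠ 0 := fun h => hx0 (by rw [h, map_zero])
  let S : Set (Ideal C) := {I | ∃ f, IsPrim (k := k) f ∧ f ≠ 0 ∧ I = Ideal.span {f}}
  obtain ⟨_, ⟨f, hf, hf0, rfl⟩, hmax⟩ := (wellFounded_gt (α := Ideal C)).has_min S ⟨_, f₀, hf₀, hf₀0, rfl⟩
  refine ⟨f, hf, hf0, ?_⟩
  haveI := isHopfIdeal_span_prim hf
  let U := C ⧸ Ideal.span {f}
  haveI : Algebra.FiniteType k U := Algebra.FiniteType.of_surjective (Ideal.Quotient.mkₐ k _) Ideal.Quotient.mk_surjective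
  haveI : IsDomain C := Function.Injective.isDomain (Algebra.TensorProduct.includeRight : C →ₐ[k] K ⊗[k] C).toRingHom
    (Algebra.TensorProduct.includeRight_injective (algebraMap k K).injective)
  haveI : Algebra.FormallySmooth K (K ⊗[k] C) := Groth.L01.SmoothKer.formallySmooth_of_isReduced
  let F : K ⊗[k] C := (1 : K) ⊗ₜ[k] f
  have hred : IsReduced (K ⊗[k] U) ∧ IsReduced ((K ⊗[k] C) ⧸ Ideal.span {F}) := by
    haveI := isHopfIdeal_span_prim (isPrim_one_tmul (K := K) hf)
    obtain ⟨p, hp⟩ := CharP.exists k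
    rcases CharP.char_is_prime_or_zero k p with hpp | rfl
    · haveI : Fact p.Prime := ⟨hpp⟩
      haveI := hp
      haveI : CharP K p := charP_of_injective_algebraMap (algebraMap k K).injective p
      have hm : F ∉ RingHom.ker (Bialgebra.counitAlgHom K (K ⊗[k] C)) ^ 2 := by
        intro h2
        obtain ⟨g, hgp, hg⟩ := Groth.L01.SmoothKer.exists_root p (isPrim_one_tmul (K := K) hf) h2
        haveI : ExpChar K p := ExpChar.prime hpp
        haveI : ExpChar (K ⊗[k] C) p := expChar_of_injective_algebraMap (algebraMap K (K ⊗[k] C)).injective p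
        have hfix : ∀ τ : K ≃ₐ[k] K, conjT K C τ g = g := fun τ => by
          refine frobenius_inj (K ⊗[k] C) p ?_
          show (conjT K C τ g) ^ p = g ^ p
          rw [← map_pow, hgp]
          simp [F, conjT]
        haveI : Algebra.IsAlgebraic k K := Normal.toIsAlgebraic
        obtain ⟨g₀, rfl⟩ := mem_range_of_fixed_perfect hfix
        have hinj := Algebra.TensorProduct.includeRight_injective (R := k) (A := K) (B := C) (algebraMap k K).injective
        have hg₀p : g₀ ^ p = f := hinj (by
          show (1 : K) ⊗ₜ[k] (g₀ ^ p) = (1 : K) ⊗ₜ[k] f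
          rw [show (1 : K) ⊗ₜ[k] (g₀ ^ p) = ((1 : K) ⊗ₜ[k] g₀) ^ p by rw [Algebra.TensorProduct.tmul_pow, one_pow]]
          exact hgp)
        have hg₀ : IsPrim (k := k) g₀ := isPrim_of_one_tmul hg
        have hg₀0 : g₀ ≠ 0 := fun h => hf0 (by rw [← hg₀p, h, zero_pow hpp.ne_zero])
        refine hmax _ ⟨g₀, hg₀, hg₀0, rfl⟩ (lt_of_le_of_ne ?_ fun heq => ?_)
        · rw [Ideal.span_singleton_le_iff_mem, ← hg₀p, Ideal.mem_span_singleton]
          exact dvd_pow_self _ hpp.ne_zero
        · have h1 : g₀ ∈ Ideal.span {f} := heq ▸ Ideal.mem_span_singleton_self g₀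
          obtain ⟨y, hy⟩ := Ideal.mem_span_singleton'.1 h1
          rw [← hg₀p, show p = p - 1 + 1 by have := hpp.two_le; omega, pow_succ, ← mul_assoc] at hy
          have h3 : y * g₀ ^ (p - 1) = 1 := mul_right_cancel₀ hg₀0 (hy.trans (one_mul _).symm)
          have h4 := congrArg (Coalgebra.counit (R := k)) h3
          rw [Bialgebra.counit_mul, Bialgebra.counit_one,
            show Coalgebra.counit (R := k) (g₀ ^ (p - 1)) = 0 by
              rw [Bialgebra.counit_pow, hg₀.counit, zero_pow (by have := hpp.two_le; omega)], mul_zero] at h4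
          exact zero_ne_one h4
      refine ⟨?_, ?_⟩
      · haveI := Groth.L01.SmoothKer.formallySmooth_quotient
          (Algebra.TensorProduct.map (AlgHom.id K K) (Ideal.Quotient.mkₐ k (Ideal.span {f})))
          (LinearMap.lTensor_surjective K (g := (Ideal.Quotient.mkₐ k (Ideal.span {f})).toLinearMap)
            Ideal.Quotient.mk_surjective) ker_map_mk (isPrim_one_tmul hf) (Or.inl hm)
        exact Groth.L01.SmoothKer.isReduced_of_formallySmooth (k := K) inferInstance
      · haveI := Groth.L01.SmoothKer.formallySmooth_quotient (Ideal.Quotient.mkₐ K (Ideal.span {F}))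
          Ideal.Quotient.mk_surjective Ideal.mk_ker (isPrim_one_tmul hf) (Or.inl hm)
        exact Groth.L01.SmoothKer.isReduced_of_formallySmooth (k := K) inferInstance
    · haveI := hp
      haveI : CharZero k := CharP.charP_to_charZero k
      haveI : CharZero K := charZero_of_injective_algebraMap (algebraMap k K).injective
      exact ⟨Groth.L08.CartierRed.isReduced_of_charZero (k := K), Groth.L08.CartierRed.isReduced_of_charZero (k := K)⟩
  haveI := hred.1
  haveI := hred.2
  refine isDomain_of_connected fun e he => ?_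
  by_contra h
  rw [not_or] at h
  obtain ⟨g, hg, hg0, hlt⟩ := exists_bigger (K := K) hU hf hf0 he h.1 h.2
  exact hmax _ ⟨g, hg, hg0, rfl⟩ hlt

end Groth.L01.MultConj
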