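import Groth.Agent.L01.MultConj.Translate
import Groth.Agent.L01.DimOne.Ga2
import Groth.Agent.L01.NormalHopf
import Groth.Agent.S3264
import Groth.Agent.S3265
import Groth.Agent.S5422

/-!
# Additive functions with connected kernel over a perfect field
-/

set_option autoImplicit false

universe u

open TensorProduct WithConv Groth.L08 Groth.L01.MultByUnip Groth.L01.MultDescent Polynomial
open Groth.L01.SmoothKer (IsPrim)

attribute [local instance] Groth.L01.MultDescent.ptGroup

noncomputable section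

namespace Groth.L01.MultConj

variable {k : Type u} [Field k] {K : Type u} [Field K] [Algebra k K]
variable {C : Type u} [CommRing C] [HopfAlgebra k C]

/-- Additive functions are additive. -/
theorem prim_mul {f : C} (hf : IsPrim (k := k) f) {R : Type u} [CommRing R] [Algebra k R]
    (x y : WithConv (C →ₐ[k] R)) : (x * y).ofConv f = x.ofConv f + y.ofConv f := by
  rw [AlgHom.convMul_apply, show Coalgebra.comul (R := k) f = _ from hf]
  simp

theorem prim_one {f : C} (hf : IsPrim (k := k) f) {R : Type u} [CommRing R] [Algebra k R] :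
    (1 : WithConv (C →ₐ[k] R)).ofConv f = 0 := by
  rw [AlgHom.convOne_apply, hf.counit, map_zero]

theorem prim_pinv {f : C} (hf : IsPrim (k := k) f) {R : Type u} [CommRing R] [Algebra k R]
    (x : WithConv (C →ₐ[k] R)) : (pinv x).ofConv f = - x.ofConv f := by
  refine eq_neg_of_add_eq_zero_left ?_
  rw [← prim_mul hf, Groth.L08.pinv_mul, prim_one hf]

/-- The ideal of an additive function is a Hopf ideal. -/
theorem isHopfIdeal_span_prim {f : C} (hf : IsPrim (k := k) f) : (Ideal.span {f}).IsHopfIdeal k := by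
  have hπ : Ideal.Quotient.mkₐ k (Ideal.span {f}) f = 0 :=
    Ideal.Quotient.eq_zero_iff_mem.2 (Ideal.mem_span_singleton_self f)
  refine { toIsCoideal := ⟨fun x hx => ?_, fun x hx => ?_⟩, antipode_mem := fun x hx => ?_ }
  · obtain ⟨y, rfl⟩ := Ideal.mem_span_singleton'.1 hx
    rw [Bialgebra.counit_mul, hf.counit, mul_zero]
  · obtain ⟨y, rfl⟩ := Ideal.mem_span_singleton'.1 hx
    let π := Ideal.Quotient.mkₐ k (Ideal.span {f})
    show Algebra.TensorProduct.map π π (Coalgebra.comul (R := k) (y * f)) = 0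
    rw [Bialgebra.comul_mul, map_mul, show Coalgebra.comul (R := k) f = _ from hf]
    simp [π, hπ]
  · obtain ⟨y, rfl⟩ := Ideal.mem_span_singleton'.1 hx
    change HopfAlgebra.antipodeAlgHom k C (y * f) ∈ Ideal.span {f}
    rw [map_mul]
    refine Ideal.mul_mem_left _ _ ?_
    rw [HopfAlgebra.antipodeAlgHom_apply, hf.antipode]
    exact (Ideal.span {f}).neg_mem (Ideal.mem_span_singleton_self f)

theorem isPrim_one_tmul {f : C} (hf : IsPrim (k := k) f) : IsPrim (k := K) ((1 : K) ⊗ₜ[k] f) := by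
  unfold SmoothKer.IsPrim at *
  rw [Groth.Agent.S7966.comul_one_tmul, hf]
  simp only [TensorProduct.tmul_add, map_add]
  rfl

theorem isPrim_of_one_tmul {f : C} (hf : IsPrim (k := K) ((1 : K) ⊗ₜ[k] f)) : IsPrim (k := k) f := by
  unfold SmoothKer.IsPrim at *
  rw [Groth.Agent.S7966.comul_one_tmul] at hf
  have h1 : TensorProduct.AlgebraTensorModule.distribBaseChange k K C C
      ((1 : K) ⊗ₜ[k] Coalgebra.comul (R := k) f) =
      TensorProduct.AlgebraTensorModule.distribBaseChange k K C C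
        ((1 : K) ⊗ₜ[k] (f ⊗ₜ[k] (1 : C) + (1 : C) ⊗ₜ[k] f)) := by
    refine hf.trans ?_
    simp only [TensorProduct.tmul_add, map_add]
    rfl
  exact Algebra.TensorProduct.includeRight_injective (A := K) (algebraMap k K).injective
    ((TensorProduct.AlgebraTensorModule.distribBaseChange k K C C).injective h1)

theorem trR_one_tmul (v : WithConv (K ⊗[k] C →ₐ[K] K)) (c : C) :
    trR v ((1 : K) ⊗ₜ[k] c) = ((toConv Algebra.TensorProduct.includeRight : WithConv (C →ₐ[k] K ⊗[k] C)) *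
      MultDescent.push C (Algebra.TensorProduct.includeLeft : K →ₐ[k] K ⊗[k] C) (resPt v)).ofConv c := by
  rw [trR, AlgHom.convMul_apply, AlgHom.convMul_apply, Groth.Agent.S7966.comul_one_tmul]
  induction Coalgebra.comul (R := k) c with
  | zero => simp
  | add x y hx hy => simp only [map_add, TensorProduct.tmul_add, hx, hy]
  | tmul x y => rfl

/-- Integrality over one element descends along injective maps. -/
theorem isIntegral_adjoin_of_map {A B : Type u} [CommRing A] [Algebra K A] [CommRing B] [Algebra K B]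
    (φ : B →ₐ[K] A) (hφ : Function.Injective φ) {F b : B} (h : IsIntegral (Algebra.adjoin K {φ F}) (φ b)) :
    IsIntegral (Algebra.adjoin K {F}) b := by
  rcases subsingleton_or_nontrivial A with hA | hA
  · haveI := hφ.subsingleton
    exact ⟨1, monic_one, Subsingleton.elim _ _⟩
  obtain ⟨Q, hQ, hQb⟩ := h
  let θ : Algebra.adjoin K {F} →+* A := ((φ.comp (Algebra.adjoin K {F}).val) : _ →+* A)
  have hlift : Q.map (algebraMap (Algebra.adjoin K {φ F}) A) ∈ Polynomial.lifts θ := by
    refine (Polynomial.lifts_iff_coeff_lifts _).2 fun i => ?_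
    rw [Polynomial.coeff_map]
    have h1 : ((Q.coeff i : Algebra.adjoin K {φ F}) : A) ∈ (Algebra.adjoin K {F}).map φ := by
      rw [AlgHom.map_adjoin_singleton]; exact (Q.coeff i).2
    obtain ⟨x, hx, hxe⟩ := h1
    exact ⟨⟨x, hx⟩, hxe⟩
  obtain ⟨P, hP, -, hPm⟩ := Polynomial.lifts_and_degree_eq_and_monic hlift (hQ.map _)
  refine ⟨P, hPm, hφ ?_⟩
  rw [map_zero]
  have h2 : φ (P.eval₂ (algebraMap (Algebra.adjoin K {F}) B) b) = (P.map θ).eval (φ b) := by
    rw [Polynomial.eval_map, ← AlgHom.coe_toRingHom, Polynomial.hom_eval₂]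
    rfl
  rw [h2, hP, Polynomial.eval_map, hQb]

/-- A reduced noetherian ring has finitely many idempotents. -/
theorem finite_idempotent (R : Type u) [CommRing R] [IsNoetherianRing R] [IsReduced R] :
    {e : R | IsIdempotentElem e}.Finite := by
  haveI := (minimalPrimes.finite_of_isNoetherianRing R).to_subtype
  refine Set.Finite.of_finite_image (f := fun e => {P : minimalPrimes R | e ∈ P.1}) (Set.toFinite _) ?_
  intro e he e' he' h
  refine sub_eq_zero.1 (IsNilpotent.eq_zero (mem_nilradical.1 ?_))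
  rw [nilradical, ← Ideal.sInf_minimalPrimes, Ideal.mem_sInf]
  intro P hP
  have hiff : e ∈ P ↔ e' ∈ P := Set.ext_iff.1 h ⟨P, hP⟩
  haveI : P.IsPrime := hP.1.1
  by_cases h1 : e ∈ P
  · exact P.sub_mem h1 (hiff.1 h1)
  · have h2 : ∀ x : R, IsIdempotentElem x → x ∉ P → 1 - x ∈ P := fun x hx hxP =>
      ((Ideal.IsPrime.mem_or_mem inferInstance (show x * (1 - x) ∈ P by rw [hx.mul_one_sub_self]; exact P.zero_mem))).resolve_left hxP
    have h3 := P.sub_mem (h2 e' he' fun h3 => h1 (hiff.2 h3)) (h2 e he h1)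
    rwa [sub_sub_sub_cancel_left] at h3

variable [IsAlgClosed K] [Normal k K] [PerfectField k] [Algebra.FiniteType k C]

omit [Normal k K] [PerfectField k] in
theorem ker_map_mk {f : C} :
    RingHom.ker (Algebra.TensorProduct.map (AlgHom.id K K) (Ideal.Quotient.mkₐ k (Ideal.span {f}))).toRingHom =
      Ideal.span {(1 : K) ⊗ₜ[k] f} := by
  have h := Algebra.TensorProduct.lTensor_ker (R := k) (A := K) (Ideal.Quotient.mkₐ k (Ideal.span {f}))
    Ideal.Quotient.mk_surjective
  rw [show RingHom.ker (Ideal.Quotient.mkₐ k (Ideal.span {f})) = Ideal.span {f} from Ideal.mk_ker,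
    Ideal.map_span, Set.image_singleton] at h
  exact h

/-- If the kernel of an additive function is smooth and not connected, there is a smaller one. -/
theorem exists_bigger [IsDomain (K ⊗[k] C)] (hU : HopfRep.IsUnipotent k C) {f : C} (hf : IsPrim (k := k) f) (hf0 : f ≠ 0)
    [IsReduced (K ⊗[k] (C ⧸ Ideal.span {f}))] [IsReduced ((K ⊗[k] C) ⧸ Ideal.span {(1 : K) ⊗ₜ[k] f})]
    {e₀ : C ⧸ Ideal.span {f}} (he₀ : IsIdempotentElem e₀) (he0 : e₀ ≠ 0) (he1 : e₀ ≠ 1) :
    ∃ g : C, IsPrim (k := k) g ∧ g ≠ 0 ∧ Ideal.span {f} < Ideal.span {g} := by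
  classical
  haveI := isHopfIdeal_span_prim hf
  let U := C ⧸ Ideal.span {f}
  haveI : Algebra.FiniteType k U := Algebra.FiniteType.of_surjective (Ideal.Quotient.mkₐ k _) Ideal.Quotient.mk_surjective
  -- normalise the idempotent
  obtain ⟨e, he, hε, hne⟩ : ∃ e : U, IsIdempotentElem e ∧ Bialgebra.counitAlgHom k U e = 1 ∧ e ≠ 1 := by
    rcases IsIdempotentElem.iff_eq_zero_or_one.1 (he₀.map (Bialgebra.counitAlgHom k U)) with h | h
    · exact ⟨1 - e₀, he₀.one_sub, by rw [map_sub, map_one, h, sub_zero], fun h1 => he0 (sub_eq_self.1 h1)⟩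
    · exact ⟨e₀, he₀, h, he1⟩
  -- points of the kernel
  let q : K ⊗[k] C →ₐ[K] K ⊗[k] U := Algebra.TensorProduct.map (AlgHom.id K K) (Ideal.Quotient.mkₐ k (Ideal.span {f}))
  have hq : Function.Surjective q := LinearMap.lTensor_surjective K (g := (Ideal.Quotient.mkₐ k (Ideal.span {f})).toLinearMap)
    Ideal.Quotient.mk_surjective
  have hbar : ∀ v : WithConv (C →ₐ[k] K), v.ofConv f = 0 → ∃ vb : K ⊗[k] U →ₐ[K] K, ∀ z, vb (q z) = atPt v.ofConv z := by
    intro v hv
    have hk : ∀ a ∈ Ideal.span {f}, v.ofConv a = 0 := fun a ha => by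
      obtain ⟨y, rfl⟩ := Ideal.mem_span_singleton'.1 ha
      rw [map_mul, hv, mul_zero]
    refine ⟨atPt (Ideal.Quotient.liftₐ _ v.ofConv hk), fun z => ?_⟩
    induction z with
    | zero => simp
    | add x y hx hy => simp only [map_add, hx, hy]
    | tmul c a =>
      rw [show q (c ⊗ₜ[k] a) = c ⊗ₜ[k] Ideal.Quotient.mk (Ideal.span {f}) a from rfl, atPt_tmul, atPt_tmul]
      rfl
  let X : WithConv (C →ₐ[k] K ⊗[k] U) :=
    toConv (Algebra.TensorProduct.includeRight.comp (Ideal.Quotient.mkₐ k (Ideal.span {f})))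
  let cst : WithConv (C →ₐ[k] K) →* WithConv (C →ₐ[k] K ⊗[k] U) :=
    MultDescent.push C (Algebra.TensorProduct.includeLeft : K →ₐ[k] K ⊗[k] U)
  have hXf : X.ofConv f = 0 := by
    show (1 : K) ⊗ₜ[k] (Ideal.Quotient.mkₐ k (Ideal.span {f}) f) = 0
    rw [show Ideal.Quotient.mkₐ k (Ideal.span {f}) f = 0 from
      Ideal.Quotient.eq_zero_iff_mem.2 (Ideal.mem_span_singleton_self f), TensorProduct.tmul_zero]
  have hsub : ∀ P : WithConv (C →ₐ[k] K ⊗[k] U), P.ofConv f = 0 → ∀ z, IsIdempotentElem (q z) →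
      ∃ z', IsIdempotentElem (q z') ∧ ∀ v : WithConv (C →ₐ[k] K), v.ofConv f = 0 →
        ∃ vb : K ⊗[k] U →ₐ[K] K, atPt v.ofConv z' = atPt (MultDescent.push C (vb.restrictScalars k) P).ofConv z ∧
          MultDescent.push C (vb.restrictScalars k) X = v ∧ ∀ w, MultDescent.push C (vb.restrictScalars k) (cst w) = w := by
    intro P hP z hz
    have hk : ∀ a ∈ Ideal.span {f}, P.ofConv a = 0 := fun a ha => by
      obtain ⟨y, rfl⟩ := Ideal.mem_span_singleton'.1 ha
      rw [map_mul, hP, mul_zero]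
    let φ : K ⊗[k] U →ₐ[K] K ⊗[k] U :=
      Algebra.TensorProduct.lift (Algebra.ofId K _) (Ideal.Quotient.liftₐ _ P.ofConv hk) fun _ _ => Commute.all _ _
    obtain ⟨z', hz'⟩ := hq (φ (q z))
    refine ⟨z', hz' ▸ hz.map φ, fun v hv => ?_⟩
    obtain ⟨vb, hvb⟩ := hbar v hv
    refine ⟨vb, ?_, WithConv.ofConv_injective (AlgHom.ext fun a => ?_), fun w => WithConv.ofConv_injective (AlgHom.ext fun a => ?_)⟩
    · rw [← hvb, hz']
      clear hz' hz
      induction z with
      | zero => simp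
      | add x y hx hy => simp only [map_add, hx, hy]
      | tmul c a =>
        rw [atPt_tmul, MultDescent.push_apply]
        show vb (algebraMap K (K ⊗[k] U) c * P.ofConv a) = c * vb (P.ofConv a)
        rw [map_mul, AlgHom.commutes]
        rfl
    · show vb ((1 : K) ⊗ₜ[k] Ideal.Quotient.mk (Ideal.span {f}) a) = v.ofConv a
      rw [show (1 : K) ⊗ₜ[k] Ideal.Quotient.mk (Ideal.span {f}) a = q ((1 : K) ⊗ₜ[k] a) from rfl, hvb, atPt_tmul, one_mul]
    · show vb (algebraMap K (K ⊗[k] U) (w.ofConv a)) = w.ofConv a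
      rw [AlgHom.commutes]
      rfl
  -- the neutral component
  let W : Set (WithConv (C →ₐ[k] K)) := {w | w.ofConv f = 0 ∧
    ∀ z, IsIdempotentElem (q z) → atPt (1 : WithConv (C →ₐ[k] K)).ofConv z = 1 → atPt w.ofConv z = 1}
  have hWone : (1 : WithConv (C →ₐ[k] K)) ∈ W := ⟨prim_one hf, fun z _ h => h⟩
  have hWmul : ∀ m n, m ∈ W → n ∈ W → m * n ∈ W := by
    rintro m n ⟨hmf, hm⟩ ⟨hnf, hn⟩
    refine ⟨by rw [prim_mul hf, hmf, hnf, add_zero], fun z hz h1 => ?_⟩
    obtain ⟨z', hz', hval⟩ := hsub (X * cst n) (by rw [prim_mul hf, hXf, MultDescent.push_apply, hnf, map_zero, add_zero]) z hz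
    obtain ⟨vb, hv, hX, hc⟩ := hval 1 (prim_one hf)
    obtain ⟨vb', hv', hX', hc'⟩ := hval m hmf
    rw [map_mul, hX, hc, one_mul] at hv
    rw [map_mul, hX', hc'] at hv'
    rw [← hv']
    exact hm z' hz' (hv.trans (hn z hz h1))
  have hWinv : ∀ n, n ∈ W → pinv n ∈ W := by
    rintro n ⟨hnf, hn⟩
    refine ⟨by rw [prim_pinv hf, hnf, neg_zero], fun z hz h1 => ?_⟩
    obtain ⟨z', hz', hval⟩ := hsub X⁻¹ (by show (pinv X).ofConv f = 0; rw [prim_pinv hf, hXf, neg_zero]) z hz
    obtain ⟨vb, hv, hX, hc⟩ := hval 1 (prim_one hf)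
    obtain ⟨vb', hv', hX', hc'⟩ := hval n hnf
    rw [map_inv, hX, inv_one] at hv
    rw [map_inv, hX'] at hv'
    show atPt (n⁻¹).ofConv z = 1
    rw [← hv']
    exact hn z' hz' (hv.trans h1)
  have hWconj : ∀ g n, n ∈ W → g * n * pinv g ∈ W := by
    rintro g n ⟨hnf, hn⟩
    refine ⟨by rw [prim_mul hf, prim_mul hf, prim_pinv hf, hnf]; ring, fun z hz h1 => ?_⟩
    obtain ⟨z', hz', hval⟩ := hsub (cst g * X * (cst g)⁻¹) (by
      show (cst g * X * pinv (cst g)).ofConv f = 0
      rw [prim_mul hf, prim_mul hf, prim_pinv hf, hXf]; ring) z hz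
    obtain ⟨vb, hv, hX, hc⟩ := hval 1 (prim_one hf)
    obtain ⟨vb', hv', hX', hc'⟩ := hval n hnf
    rw [map_mul, map_mul, map_inv, hX, hc, mul_one, mul_inv_cancel] at hv
    rw [map_mul, map_mul, map_inv, hX', hc'] at hv'
    show atPt (g * n * g⁻¹).ofConv z = 1
    rw [← hv']
    exact hn z' hz' (hv.trans h1)
  have hqconj : ∀ (σ : K ≃ₐ[k] K) z, q (conjT K C σ z) = conjT K U σ (q z) := by
    intro σ z
    induction z with
    | zero => simp
    | add x y hx hy => simp only [map_add, hx, hy]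
    | tmul c a => simp [q, conjT]
  have hWgal : ∀ (σ : K ≃ₐ[k] K), ∀ w ∈ W, gal C σ w ∈ W := by
    rintro σ w ⟨hwf, hw⟩
    refine ⟨by rw [gal_apply, hwf, map_zero], fun z hz h1 => ?_⟩
    obtain ⟨y, rfl⟩ : ∃ y, conjT K C σ y = z := ⟨conjT K C σ.symm z, by
      clear hz h1
      induction z with
      | zero => simp
      | add x y hx hy => simp only [map_add, hx, hy]
      | tmul c a => simp [conjT]⟩
    have hy : IsIdempotentElem (q y) := by
      have h2 := hz.map (conjT K U σ.symm)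
      rw [hqconj] at h2
      have h3 : ∀ x : K ⊗[k] U, conjT K U σ.symm (conjT K U σ x) = x := fun x => by
        induction x with
        | zero => simp
        | add x y hx hy => simp only [map_add, hx, hy]
        | tmul c a => simp [conjT]
      rwa [h3] at h2
    have h4 : atPt (gal C σ (1 : WithConv (C →ₐ[k] K))).ofConv (conjT K C σ y) = σ 1 := by rw [map_one, h1, map_one]
    rw [atPt_conjT] at h4
    rw [atPt_conjT, hw y hy (σ.injective h4), map_one]
  let I := ptIdeal W
  haveI : IsReduced (C ⧸ I) := isReduced_ptIdeal W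
  have hclosed : ∀ v : WithConv (C →ₐ[k] K), (∀ a ∈ I, v.ofConv a = 0) → v ∈ W := by
    intro v hv
    refine ⟨hv f (mem_ptIdeal.2 fun w hw => hw.1), fun z hz h1 => sub_eq_zero.1 ?_⟩
    have h2 := mem_closure (z := z - 1) hWgal (fun w hw => by rw [map_sub, map_one, hw.2 z hz h1, sub_self]) hv
    rwa [map_sub, map_one] at h2
  haveI : IsReduced C :=
    isReduced_of_injective (Algebra.TensorProduct.includeRight : C →ₐ[k] K ⊗[k] C)
      (Algebra.TensorProduct.includeRight_injective (algebraMap k K).injective)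
  haveI : I.IsHopfIdeal k := isHopfIdeal_of_points (K := K) I
    (fun a ha => (algebraMap k K).injective (by
      rw [map_zero]
      simpa [AlgHom.convOne_apply] using mem_ptIdeal.1 ha 1 hWone))
    (fun v w hv hw a ha => mem_ptIdeal.1 ha _ (hWmul v w (hclosed v hv) (hclosed w hw)))
    (fun v hv a ha => mem_ptIdeal.1 ha _ (hWinv v (hclosed v hv)))
  have hIn : SGA3.IsNormalHopfIdeal k C I := isNormalHopfIdeal_of_points (K := K) I
    fun g n hn a ha => mem_ptIdeal.1 ha _ (hWconj g n (hclosed n hn))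
  -- an invariant function outside the ideal
  obtain ⟨et, het⟩ := Ideal.Quotient.mk_surjective e
  have heI : 1 - et ∈ I := by
    refine mem_ptIdeal.2 fun w hw => ?_
    have h1 := hw.2 ((1 : K) ⊗ₜ[k] et) (by
      rw [show q ((1 : K) ⊗ₜ[k] et) = (Algebra.TensorProduct.includeRight : U →ₐ[k] K ⊗[k] U) e by rw [← het]; rfl]
      exact he.map _) (by
      rw [atPt_tmul, one_mul, AlgHom.convOne_apply]
      rw [show Coalgebra.counit (R := k) et = 1 by rw [← het] at hε; exact hε, map_one])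
    rw [atPt_tmul, one_mul] at h1
    rw [map_sub, map_one, h1, sub_self]
  have hef : 1 - et ∉ Ideal.span {f} := fun h => hne (by
    rw [← Ideal.Quotient.eq_zero_iff_mem, map_sub, map_one, het, sub_eq_zero] at h
    exact h.symm)
  obtain ⟨a, ⟨haD, haε⟩, haf⟩ : ∃ a, (a ∈ NormalHopf.coinv k I ∧ Coalgebra.counit (R := k) a = 0) ∧ a ∉ Ideal.span {f} := by
    by_contra! hall
    have hle : SGA3.augIdealSpan k C (NormalHopf.coinv k I) ≤ Ideal.span {f} := Ideal.span_le.2 fun x hx => hall x hx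
    rw [← NormalHopf.eq_augIdealSpan hIn] at hle
    exact hef (hle heI)
  have hfD : f ∈ NormalHopf.coinv k I := by
    rw [NormalHopf.mem_coinv_iff]
    intro R _ _ g n hn
    rw [prim_mul hf, hn f (mem_ptIdeal.2 fun w hw => hw.1), add_zero]
  -- a finitely generated group of invariants
  let hD := NormalHopf.isHopfSubalgebra_coinv (k := k) (I := I) hIn
  letI := Groth.L25.HopfSub.hopfAlgebra hD
  obtain ⟨B₁, hs, hfg, hB₁⟩ := Groth.L25.HopfSub.exists_fg k (NormalHopf.coinv k I)
    {(⟨f, hfD⟩ : NormalHopf.coinv k I), ⟨a, haD⟩}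
  letI := Groth.L25.HopfSub.hopfAlgebra hB₁
  haveI : Algebra.FiniteType k B₁ := B₁.fg_iff_finiteType.1 hfg
  let ι : B₁ →ₐc[k] C := (Groth.L25.HopfSub.inclBialg hD).comp (Groth.L25.HopfSub.inclBialg hB₁)
  have hι : Function.Injective ι := fun x y h => Subtype.ext (Subtype.ext h)
  have hιD : ∀ b, ι b ∈ NormalHopf.coinv k I := fun b => (b : NormalHopf.coinv k I).2
  let f₁ : B₁ := ⟨⟨f, hfD⟩, hs (by simp)⟩
  let a₁ : B₁ := ⟨⟨a, haD⟩, hs (by simp)⟩
  let ιK : K ⊗[k] B₁ →ₐc[K] K ⊗[k] C := Bialgebra.TensorProduct.map (BialgHom.id K K) ι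
  have hιK : Function.Injective ιK :=
    Module.Flat.lTensor_preserves_injective_linearMap (M := K) (ι : B₁ →ₗ[k] C) hι
  have hιKt : ∀ (c : K) (b : B₁), ιK (c ⊗ₜ[k] b) = c ⊗ₜ[k] ι b := fun c b => rfl
  haveI : IsDomain (K ⊗[k] B₁) := Function.Injective.isDomain (ιK : K ⊗[k] B₁ →+* K ⊗[k] C) hιK
  have hUB : HopfRep.IsUnipotent K (K ⊗[k] B₁) := (Groth.Agent.S7951.result k K B₁).1
    ((Groth.Agent.S5422.result k C).2.1 B₁ ι hι hU)
  -- translates
  haveI : IsNoetherianRing (K ⊗[k] U) := Algebra.FiniteType.isNoetherianRing K _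
  let Idem := {E : K ⊗[k] U | IsIdempotentElem E}
  haveI : Finite Idem := (finite_idempotent (K ⊗[k] U)).to_subtype
  have hint : ∀ y : K ⊗[k] B₁, IsIntegral (Algebra.adjoin K {(1 : K) ⊗ₜ[k] f₁}) y := by
    have hone : ∀ b : B₁, IsIntegral (Algebra.adjoin K {(1 : K) ⊗ₜ[k] f₁}) ((1 : K) ⊗ₜ[k] b) := by
      intro b
      refine isIntegral_adjoin_of_map (ιK : K ⊗[k] B₁ →ₐ[K] K ⊗[k] C) hιK ?_
      refine isIntegral_of_finite (isPrim_one_tmul hf) _ ?_
      let W₁ := {v : WithConv (K ⊗[k] C →ₐ[K] K) | v.ofConv ((1 : K) ⊗ₜ[k] f) = 0}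
      let cls : WithConv (K ⊗[k] C →ₐ[K] K) → (Idem → Prop) := fun v E =>
        ∀ z, q z = E.1 → v.ofConv z = 1
      refine (Set.finite_range fun s : Idem → Prop =>
        trR (Function.invFunOn cls W₁ s) ((1 : K) ⊗ₜ[k] ι b)).subset ?_
      rintro _ ⟨v, hv, rfl⟩
      refine ⟨cls v, ?_⟩
      set v' := Function.invFunOn cls W₁ (cls v)
      have hv' : v' ∈ W₁ := Function.invFunOn_mem ⟨v, hv, rfl⟩
      have hcls : cls v' = cls v := Function.invFunOn_eq ⟨v, hv, rfl⟩
      have hn : pinv (resPt v') * resPt v ∈ W := by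
        have hvf : (resPt v).ofConv f = 0 := hv
        have hvf' : (resPt v').ofConv f = 0 := hv'
        refine ⟨by rw [prim_mul hf, prim_pinv hf, hvf, hvf', neg_zero, add_zero], fun z hz h1 => ?_⟩
        obtain ⟨z', hz', hval⟩ := hsub ((cst (resPt v'))⁻¹ * X) (by
          show (pinv (cst (resPt v')) * X).ofConv f = 0
          rw [prim_mul hf, prim_pinv hf, hXf, MultDescent.push_apply, hvf', map_zero, neg_zero, add_zero]) z hz
        obtain ⟨vb', hw', hX', hc'⟩ := hval (resPt v') hvf'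
        obtain ⟨vb, hw, hX, hc⟩ := hval (resPt v) hvf
        rw [map_mul, map_inv, hX', hc', inv_mul_cancel, h1] at hw'
        rw [map_mul, map_inv, hX, hc] at hw
        show atPt ((resPt v')⁻¹ * resPt v).ofConv z = 1
        rw [← hw, atPt_resPt]
        rw [atPt_resPt] at hw'
        have h5 : cls v' ⟨q z', hz'⟩ := by
          intro z'' hz''
          obtain ⟨vb₀, hvb₀⟩ := hbar (resPt v') hvf'
          rw [← atPt_resPt v'] at hw' ⊢
          rw [← hvb₀, hz'', hvb₀]
          exact hw'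
        rw [hcls] at h5
        exact h5 z' rfl
      show trR v' ((1 : K) ⊗ₜ[k] ι b) = trR v ((1 : K) ⊗ₜ[k] ι b)
      rw [trR_one_tmul, trR_one_tmul,
        show resPt v = resPt v' * (pinv (resPt v') * resPt v) by rw [← mul_assoc, Groth.L08.mul_pinv, one_mul],
        map_mul, ← mul_assoc]
      refine (NormalHopf.mem_coinv_iff.1 (hιD b) (K ⊗[k] C) _ _ fun x hx => ?_).symm
      rw [MultDescent.push_apply, mem_ptIdeal.1 hx _ hn, map_zero]
    intro y
    induction y with
    | zero => exact isIntegral_zero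
    | add x y hx hy => exact hx.add hy
    | tmul c b =>
      have h1 : c ⊗ₜ[k] b = algebraMap (Algebra.adjoin K {(1 : K) ⊗ₜ[k] f₁}) (K ⊗[k] B₁) (algebraMap K _ c) * ((1 : K) ⊗ₜ[k] b) := by
        rw [← IsScalarTower.algebraMap_apply, ← Algebra.smul_def, TensorProduct.smul_tmul', smul_eq_mul, mul_one]
      rw [h1]
      exact isIntegral_algebraMap.mul (hone b)
  haveI : Ring.KrullDimLE 1 (K ⊗[k] B₁) := krullDimLE_one_of_isIntegral _ hint
  haveI : Coalgebra.IsCocomm K (K ⊗[k] B₁) := DimOne.isCocomm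
  -- a generator
  obtain ⟨s, hsgen⟩ := (inferInstance : Algebra.FiniteType K (K ⊗[k] B₁)).out
  obtain ⟨g, hg, hgs⟩ := DimOne.exists_gen_finset (k := K) (A := K ⊗[k] B₁) s
    fun x _ => DimOne.exists_prim_of_mem hUB x
  have hall : ∀ y : K ⊗[k] B₁, y ∈ Algebra.adjoin K {g} := fun y =>
    (Algebra.adjoin_le (S := Algebra.adjoin K {g}) (fun x hx => hgs x hx)) (hsgen ▸ Algebra.mem_top)
  have hgen : ∀ y : K ⊗[k] B₁, ∃ r : K[X], aeval g r = y := fun y => by
    have := hall y
    rwa [Algebra.adjoin_singleton_eq_range_aeval] at this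
  have hεF : Coalgebra.counit (R := K) ((1 : K) ⊗ₜ[k] f₁) = 0 := by
    rw [show Coalgebra.counit (R := K) ((1 : K) ⊗ₜ[k] f₁) = Coalgebra.counit (R := K) (ιK ((1 : K) ⊗ₜ[k] f₁)) from
      (CoalgHomClass.counit_comp_apply ιK _).symm, hιKt]
    exact (isPrim_one_tmul hf).counit
  have hg0 : g ≠ 0 := by
    intro hg0
    obtain ⟨r, hr⟩ := hgen ((1 : K) ⊗ₜ[k] f₁)
    rw [hg0, aeval_def, eval₂_at_zero] at hr
    have h1 := hεF
    rw [← hr, Bialgebra.counit_algebraMap] at h1
    refine hf0 ?_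
    have h2 := congrArg ιK hr
    rw [hιKt, h1, map_zero, map_zero] at h2
    exact Algebra.TensorProduct.includeRight_injective (A := K) (algebraMap k K).injective
      (h2.symm.trans (map_zero _).symm)
  have htr : ∀ r : K[X], aeval g r = 0 → r = 0 := fun r hr => DimOne.eq_zero_of_aeval hg hg0 hr
  have hεg : Coalgebra.counit (R := K) g = 0 := hg.counit
  have hscal : ∀ τ : K ≃ₐ[k] K, ∃ c : K, conjT K B₁ τ g = c • g := by
    intro τ
    obtain ⟨r, hr⟩ := hgen (conjT K B₁ τ g)
    obtain ⟨r', hr'⟩ := hgen (conjT K B₁ τ.symm g)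
    have hτ : ∀ x : K ⊗[k] B₁, conjT K B₁ τ (conjT K B₁ τ.symm x) = x := fun x => by
      induction x with
      | zero => simp
      | add x y hx hy => simp only [map_add, hx, hy]
      | tmul c a => simp [conjT]
    have hsemi : ∀ p : K[X], conjT K B₁ τ (aeval g p) = aeval (conjT K B₁ τ g) (p.map (τ : K →+* K)) := by
      intro p
      rw [aeval_def, aeval_def, eval₂_map, ← AlgHom.coe_toRingHom, hom_eval₂]
      congr 1
    have hcomp : (r'.map (τ : K →+* K)).comp r = Polynomial.X := by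
      refine sub_eq_zero.1 (htr _ ?_)
      rw [map_sub, aeval_X, aeval_comp, hr, ← hsemi, hr', hτ, sub_self]
    have hdeg : r.natDegree ≤ 1 := by
      have h1 := congrArg natDegree hcomp
      rw [natDegree_comp, natDegree_X] at h1
      exact (Nat.eq_one_of_mul_eq_one_left h1).le
    obtain ⟨c, d, hcd⟩ := Polynomial.exists_eq_X_add_C_of_natDegree_le_one hdeg
    rw [hcd, map_add, map_mul, aeval_X, aeval_C, aeval_C, ← Algebra.smul_def] at hr
    refine ⟨c, ?_⟩
    have hεconj : ∀ x : K ⊗[k] B₁, Coalgebra.counit (R := K) (conjT K B₁ τ x) = τ (Coalgebra.counit (R := K) x) := by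
      intro x
      induction x with
      | zero => simp
      | add x y hx hy => simp only [map_add, hx, hy]
      | tmul c a => simp [conjT, Algebra.smul_def]
    have h2 := congrArg (Coalgebra.counit (R := K)) hr
    rw [map_add, map_smul, hεg, smul_zero, zero_add, Bialgebra.counit_algebraMap, hεconj, hεg, map_zero] at h2
    rw [h2, map_zero, add_zero] at hr
    exact hr.symm
  let bK := Algebra.TensorProduct.basis K (Module.Basis.ofVectorSpace k B₁)
  obtain ⟨i, hi⟩ : ∃ i, bK.repr g i ≠ 0 := by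
    by_contra! h
    exact hg0 (bK.repr.injective (Finsupp.ext fun i => by rw [h i, map_zero]; rfl))
  let g' := (bK.repr g i)⁻¹ • g
  have hfix : ∀ τ : K ≃ₐ[k] K, conjT K B₁ τ g' = g' := by
    intro τ
    obtain ⟨c, hc⟩ := hscal τ
    have hsm : ∀ (t : K) (x : K ⊗[k] B₁), conjT K B₁ τ (t • x) = τ t • conjT K B₁ τ x := fun t x => by
      induction x with
      | zero => simp
      | add x y hx hy => simp only [smul_add, map_add, hx, hy]
      | tmul c a => simp [conjT, TensorProduct.smul_tmul']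
    have hci : τ (bK.repr g i) = c * bK.repr g i := by
      have h1 := congrArg (fun x => bK.repr x i) hc
      simp only [map_smul, Finsupp.smul_apply, smul_eq_mul] at h1
      rwa [repr_conjT] at h1
    rw [hsm, hc, smul_smul, map_inv₀, hci]
    have hc0 : c ≠ 0 := fun h => hi (τ.injective (by rw [hci, h, zero_mul, map_zero]))
    congr 1
    field_simp
  haveI : Algebra.IsAlgebraic k K := Normal.toIsAlgebraic
  obtain ⟨g₁, hg₁⟩ := mem_range_of_fixed_perfect hfix
  have hg' : IsPrim (k := K) g' := by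
    unfold SmoothKer.IsPrim at *
    show Coalgebra.comul (R := K) ((bK.repr g i)⁻¹ • g) = _
    rw [map_smul, hg, smul_add, ← TensorProduct.tmul_smul ((bK.repr g i)⁻¹) (1 : K ⊗[k] B₁) g, TensorProduct.smul_tmul']
  have hg₁p : IsPrim (k := k) g₁ := isPrim_of_one_tmul (K := K) (hg₁.symm ▸ hg')
  have hgCp : IsPrim (k := k) (ι g₁) := by
    unfold SmoothKer.IsPrim at *
    rw [← CoalgHomClass.map_comp_comul_apply ι g₁, hg₁p]
    simp
  have hmem : ∀ b : B₁, Coalgebra.counit (R := k) (ι b) = 0 → ι b ∈ Ideal.span {ι g₁} := by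
    intro b hb
    obtain ⟨r, hr⟩ := hgen ((1 : K) ⊗ₜ[k] b)
    have hr0 : r.coeff 0 = 0 := by
      have h1 := congrArg (Bialgebra.counitAlgHom K (K ⊗[k] B₁)) hr
      rw [← aeval_algHom_apply, show Bialgebra.counitAlgHom K (K ⊗[k] B₁) g = 0 from hεg,
        ← coeff_zero_eq_aeval_zero] at h1
      rw [h1]
      show Coalgebra.counit (R := K) ((1 : K) ⊗ₜ[k] b) = 0
      rw [show Coalgebra.counit (R := K) ((1 : K) ⊗ₜ[k] b) = Coalgebra.counit (R := K) (ιK ((1 : K) ⊗ₜ[k] b)) from
        (CoalgHomClass.counit_comp_apply ιK _).symm, hιKt]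
      simp [hb]
    obtain ⟨s', rfl⟩ := Polynomial.X_dvd_iff.2 hr0
    rw [map_mul, aeval_X] at hr
    have hgg : g = bK.repr g i • g' := by simp [g', smul_smul, hi]
    have h2 : (1 : K) ⊗ₜ[k] ι b ∈ Ideal.span {(1 : K) ⊗ₜ[k] ι g₁} := by
      rw [← hιKt, ← hιKt, hg₁, ← hr, map_mul]
      refine Ideal.mem_span_singleton'.2 ⟨algebraMap K _ (bK.repr g i) * ιK (aeval g s'), ?_⟩
      have h3 := congrArg ιK hgg
      rw [map_smul, Algebra.smul_def] at h3
      rw [h3]
      ring
    rw [← ker_map_mk, RingHom.mem_ker] at h2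
    rw [← Ideal.Quotient.eq_zero_iff_mem]
    exact Algebra.TensorProduct.includeRight_injective (A := K) (B := C ⧸ Ideal.span {ι g₁})
      (algebraMap k K).injective (h2.trans (map_zero _).symm)
  have hg₁0 : ι g₁ ≠ 0 := by
    intro h
    have h1 := hmem f₁ hf.counit
    rw [h, Ideal.span_singleton_zero, Ideal.mem_bot] at h1
    exact hf0 h1
  refine ⟨ι g₁, hgCp, hg₁0, lt_of_le_of_ne ((Ideal.span_singleton_le_iff_mem _).2 (hmem f₁ hf.counit)) fun heq => ?_⟩
  refine haf (heq ▸ hmem a₁ ?_)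
  exact haε

end Groth.L01.MultConj
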