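import Groth.Agent.L01.MultConj.Good
import Groth.Agent.L01.UnipSplit.Split

/-!
# Vanishing of Galois cohomology of connected smooth unipotent groups over perfect fields
-/

set_option autoImplicit false

universe u

open TensorProduct WithConv Groth.L08 Groth.L01.MultByUnip Groth.L01.MultDescent
open Groth.L01.SmoothKer (IsPrim)

attribute [local instance] Groth.L01.MultDescent.ptGroup

noncomputable section

namespace Groth.L01.MultConj

variable {k : Type u} [Field k] {K : Type u} [Field K] [Algebra k K] [IsAlgClosed K] [Normal k K] [PerfectField k]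
variable {A : Type u} [CommRing A] [HopfAlgebra k A] [Algebra.FiniteType k A]

/-- A cocycle of a connected smooth unipotent subgroup is a coboundary. -/
theorem exists_fixed (I : Ideal A) [hI : I.IsHopfIdeal k] (hdom : IsDomain (K ⊗[k] (A ⧸ I)))
    (hU : HopfRep.IsUnipotent k (A ⧸ I)) (u : WithConv (A →ₐ[k] K))
    (hu : ∀ τ : K ≃ₐ[k] K, ∀ a ∈ I, (pinv u * gal A τ u).ofConv a = 0) :
    ∃ v : WithConv (A →ₐ[k] K), (∀ a ∈ I, v.ofConv a = 0) ∧ ∀ τ : K ≃ₐ[k] K, gal A τ (u * v) = u * v := by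
  classical
  haveI : IsNoetherianRing A := Algebra.FiniteType.isNoetherianRing k A
  induction I using (wellFounded_gt (α := Ideal A)).induction generalizing u hI with
  | _ I ih =>
  haveI := hI
  haveI : Algebra.FiniteType k (A ⧸ I) :=
    Algebra.FiniteType.of_surjective (Ideal.Quotient.mkₐ k I) Ideal.Quotient.mk_surjective
  have hbar : ∀ x : WithConv (A →ₐ[k] K), (∀ a ∈ I, x.ofConv a = 0) → ∃ xb, quo I xb = x := fun x hx =>
    ⟨toConv (Ideal.Quotient.liftₐ I x.ofConv hx), WithConv.ofConv_injective (AlgHom.ext fun a => rfl)⟩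
  have hquo : ∀ (xb : WithConv (A ⧸ I →ₐ[k] K)) (a : A), (quo I xb).ofConv a = xb.ofConv (Ideal.Quotient.mk I a) :=
    fun xb a => rfl
  have hquoI : ∀ (xb : WithConv (A ⧸ I →ₐ[k] K)), ∀ a ∈ I, (quo I xb).ofConv a = 0 := fun xb a ha => by
    rw [hquo, Ideal.Quotient.eq_zero_iff_mem.2 ha, map_zero]
  by_cases hne : RingHom.ker (Bialgebra.counitAlgHom k (A ⧸ I)) = ⊥
  · have h1 : ∀ x : WithConv (A →ₐ[k] K), (∀ a ∈ I, x.ofConv a = 0) → x = 1 := by
      intro x hx
      obtain ⟨xb, rfl⟩ := hbar x hx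
      refine WithConv.ofConv_injective (AlgHom.ext fun a => ?_)
      let q := Ideal.Quotient.mk I a
      have h2 : q - algebraMap k _ (Coalgebra.counit (R := k) q) ∈ RingHom.ker (Bialgebra.counitAlgHom k (A ⧸ I)) := by
        simp [RingHom.mem_ker]
      rw [hne, Ideal.mem_bot, sub_eq_zero] at h2
      rw [hquo, show Ideal.Quotient.mk I a = _ from h2, AlgHom.commutes, AlgHom.convOne_apply]
      rfl
    refine ⟨1, fun a ha => ?_, fun τ => ?_⟩
    · rw [AlgHom.convOne_apply, hI.toIsCoideal.counit_eq_zero ha, map_zero]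
    · rw [mul_one]
      exact (inv_mul_eq_one.1 (h1 _ (hu τ))).symm
  obtain ⟨f, hf, hf0, hfdom⟩ := exists_good (K := K) hU hne
  obtain ⟨F, hF⟩ := Ideal.Quotient.mk_surjective f
  have hadd : ∀ x y : WithConv (A →ₐ[k] K), (∀ a ∈ I, x.ofConv a = 0) → (∀ a ∈ I, y.ofConv a = 0) →
      (x * y).ofConv F = x.ofConv F + y.ofConv F ∧ (pinv x).ofConv F = - x.ofConv F ∧ ∀ a ∈ I, (x * y).ofConv a = 0 ∧ (pinv x).ofConv a = 0 := by
    intro x y hx hy
    obtain ⟨xb, rfl⟩ := hbar x hx
    obtain ⟨yb, rfl⟩ := hbar y hy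
    have hp : pinv (quo I xb) = quo I (pinv xb) := (map_inv (quo I) xb).symm
    refine ⟨?_, ?_, fun a ha => ⟨?_, ?_⟩⟩
    · rw [← map_mul, hquo, hquo, hquo, hF, prim_mul hf]
    · rw [hp, hquo, hquo, hF, prim_pinv hf]
    · rw [← map_mul, hquoI _ a ha]
    · rw [hp, hquoI _ a ha]
  have hgalI : ∀ (τ : K ≃ₐ[k] K) (x : WithConv (A →ₐ[k] K)), (∀ a ∈ I, x.ofConv a = 0) →
      ∀ a ∈ I, (gal A τ x).ofConv a = 0 := fun τ x hx a ha => by rw [gal_apply, hx a ha, map_zero]
  -- the additive cocycle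
  let b : (K ≃ₐ[k] K) → K := fun τ => (pinv u * gal A τ u).ofConv F
  have hb : ∀ τ σ, b (τ * σ) = b τ + τ (b σ) := by
    intro τ σ
    have h1 : pinv u * gal A (τ * σ) u = (pinv u * gal A τ u) * gal A τ (pinv u * gal A σ u) := by
      rw [map_mul, show gal A τ (pinv u) = pinv (gal A τ u) from map_inv (gal A τ) u,
        show gal A (τ * σ) u = gal A τ (gal A σ u) from rfl, mul_assoc (pinv u) (gal A τ u),
        ← mul_assoc (gal A τ u), Groth.L08.mul_pinv, one_mul]
    show (pinv u * gal A (τ * σ) u).ofConv F = _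
    rw [h1, (hadd _ _ (hu τ) (hgalI τ _ (hu σ))).1, gal_apply]
  obtain ⟨sA, hsA⟩ := (inferInstance : Algebra.FiniteType k A).out
  obtain ⟨β, hβ⟩ := exists_coboundary b hb (sA.image u.ofConv) fun τ σ h => by
    show (pinv u * gal A τ u).ofConv F = (pinv u * gal A σ u).ofConv F
    rw [show gal A τ u = gal A σ u from WithConv.ofConv_injective (AlgHom.ext_of_adjoin_eq_top hsA fun a ha => by
      show τ (u.ofConv a) = σ (u.ofConv a)
      exact h _ (Finset.mem_image_of_mem _ ha))]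
  -- a point with prescribed value
  obtain ⟨χ, hχ⟩ := Groth.L01.SmoothKer.exists_point (k := K) (U := K ⊗[k] (A ⧸ I)) (isPrim_one_tmul hf) β
    fun p hp => by
      suffices p = 0 by rw [this, Polynomial.eval_zero]
      by_contra hp0
      haveI := hdom
      obtain ⟨c, hc⟩ := DimOne.mem_range_of_isIntegral (k := K)
        (isAlgebraic_iff_isIntegral.1 ⟨p, hp0, hp⟩ : IsIntegral K ((1 : K) ⊗ₜ[k] f))
      have h1 := (isPrim_one_tmul (K := K) hf).counit
      rw [hc, Bialgebra.counit_algebraMap] at h1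
      rw [h1, map_zero] at hc
      exact hf0 (Algebra.TensorProduct.includeRight_injective (A := K) (algebraMap k K).injective
        (hc.trans (map_zero _).symm))
  let v₀ : WithConv (A →ₐ[k] K) := quo I (resPt (toConv χ))
  have hv₀ : ∀ a ∈ I, v₀.ofConv a = 0 := hquoI _
  have hv₀F : v₀.ofConv F = β := by rw [hquo, hF, resPt_apply]; exact hχ
  -- recursion
  let π := Bialgebra.Quotient.mkBialgHom (R := k) I
  haveI := isHopfIdeal_span_prim hf
  let I' : Ideal A := (Ideal.span {f}).comap (π : A →ₐ[k] A ⧸ I)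
  haveI hI' : I'.IsHopfIdeal k := UnipSplit.isHopfIdeal_comap π (Ideal.span {f})
  have hle : I ≤ I' := fun a ha => by
    show π a ∈ Ideal.span {f}
    rw [show π a = 0 from Ideal.Quotient.eq_zero_iff_mem.2 ha]
    exact zero_mem _
  have hlt : I < I' := lt_of_le_of_ne hle fun h => hf0 (by
    rw [← hF, Ideal.Quotient.eq_zero_iff_mem, h]
    show π F ∈ Ideal.span {f}
    rw [show π F = f from hF]
    exact Ideal.mem_span_singleton_self f)
  let e := Ideal.quotientMapₐ (Ideal.span {f}) (π : A →ₐ[k] A ⧸ I) (le_refl I')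
  have he : Function.Injective e := Ideal.quotientMap_injective
  have hdom' : IsDomain (K ⊗[k] (A ⧸ I')) := by
    haveI := hfdom
    exact Function.Injective.isDomain (Algebra.TensorProduct.map (AlgHom.id k K) e).toRingHom
      (Module.Flat.lTensor_preserves_injective_linearMap (M := K) e.toLinearMap he)
  have hU' : HopfRep.IsUnipotent k (A ⧸ I') :=
    UnipSplit.isUnipotent_quotient (BialgHom.id k A) Function.surjective_id I I' (fun a ha => hle ha) hU
  have hkill' : ∀ x : WithConv (A →ₐ[k] K), (∀ a ∈ I, x.ofConv a = 0) → x.ofConv F = 0 → ∀ a ∈ I', x.ofConv a = 0 := by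
    intro x hx hxF a ha
    obtain ⟨xb, rfl⟩ := hbar x hx
    obtain ⟨y, hy⟩ := Ideal.mem_span_singleton'.1 (show Ideal.Quotient.mk I a ∈ Ideal.span {f} from ha)
    rw [hquo, hF] at hxF
    rw [hquo, ← hy, map_mul, hxF, mul_zero]
  have hu' : ∀ τ : K ≃ₐ[k] K, ∀ a ∈ I', (pinv (u * v₀) * gal A τ (u * v₀)).ofConv a = 0 := by
    intro τ
    have h1 : pinv (u * v₀) * gal A τ (u * v₀) = pinv v₀ * ((pinv u * gal A τ u) * gal A τ v₀) := by
      rw [map_mul, show pinv (u * v₀) = pinv v₀ * pinv u from mul_inv_rev u v₀]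
      simp only [mul_assoc]
    rw [h1]
    have h2 := hadd _ _ (hu τ) (hgalI τ v₀ hv₀)
    have h3 : ∀ a ∈ I, ((pinv u * gal A τ u) * gal A τ v₀).ofConv a = 0 := fun a ha => (h2.2.2 a ha).1
    have h4 : ∀ a ∈ I, (pinv v₀).ofConv a = 0 := fun a ha => ((hadd v₀ v₀ hv₀ hv₀).2.2 a ha).2
    have h5 := hadd _ _ h4 h3
    refine hkill' _ (fun a ha => (h5.2.2 a ha).1) ?_
    rw [h5.1, (hadd v₀ v₀ hv₀ hv₀).2.1, h2.1, gal_apply, hv₀F]
    show -β + (b τ + τ β) = 0
    rw [hβ τ]
    ring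
  obtain ⟨v₁, hv₁, hfix⟩ := ih I' hlt hdom' hU' (u * v₀) hu'
  refine ⟨v₀ * v₁, fun a ha => ((hadd v₀ v₁ hv₀ fun a ha => hv₁ a (hle ha)).2.2 a ha).1, fun τ => ?_⟩
  rw [← mul_assoc]
  exact hfix τ

end Groth.L01.MultConj
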