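import Groth.Agent.L01.MultConj.Abstract
import Groth.Agent.L01.MultConj.Vanish
import Groth.Prelude.Def_SGA3

/-!
# Conjugacy of retractions over a field: commutative kernel, or connected kernel over a perfect field
-/

set_option autoImplicit false

universe u

open TensorProduct WithConv Groth.L08 Groth.L01.MultByUnip Groth.L01.MultDescent

attribute [local instance] Groth.L01.MultDescent.ptGroup Groth.L01.MultDescent.ptCommGroup

noncomputable section

namespace Groth.L01.MultConj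

variable {k : Type u} [Field k] {A B : Type u} [CommRing A] [HopfAlgebra k A] [Algebra.FiniteType k A]
  [CommRing B] [HopfAlgebra k B] [Algebra.FiniteType k B]

local notation "𝕂" => AlgebraicClosure k

/-- The torsion points of bounded order. -/
def tk [Coalgebra.IsCocomm k B] (i : ℕ) : Subgroup (WithConv (B →ₐ[k] 𝕂)) :=
  (powMonoidHom (ordSeq k i) : WithConv (B →ₐ[k] 𝕂) →* WithConv (B →ₐ[k] 𝕂)).ker

section Torsion

variable [Coalgebra.IsCocomm k B]

theorem mem_tk {i : ℕ} {h : WithConv (B →ₐ[k] 𝕂)} : h ∈ tk i ↔ h ^ ordSeq k i = 1 := Iff.rfl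

theorem tk_mono : Monotone (tk (k := k) (B := B)) := fun i j hij h hh => by
  obtain ⟨c, hc⟩ := ordSeq_dvd (k := k) hij
  rw [mem_tk] at hh ⊢
  rw [hc, pow_mul, hh, one_pow]

theorem tk_gal (τ : 𝕂 ≃ₐ[k] 𝕂) (i : ℕ) (h : WithConv (B →ₐ[k] 𝕂)) : gal B τ h ∈ tk i ↔ h ∈ tk i := by
  rw [mem_tk, mem_tk, ← map_pow, map_eq_one_iff _ (gal B τ).injective]

theorem exists_tk_of_tors {h : WithConv (B →ₐ[k] 𝕂)} (hh : Tors h) : ∃ i, ∀ j, i ≤ j → h ∈ tk j := by
  obtain ⟨n, hn, hh⟩ := hh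
  refine ⟨n, fun j hj => tk_mono hj ?_⟩
  obtain ⟨c, hc⟩ := dvd_ordSeq (k := k) hn
  rw [mem_tk, hc, pow_mul, hh, one_pow]

theorem finite_tk [IsReduced (𝕂 ⊗[k] B)] (hd : HopfRep.IsDiagonalizable 𝕂 (𝕂 ⊗[k] B)) (i : ℕ) :
    Finite (tk (k := k) (B := B) i) :=
  (finite_kill hd (n := ordSeq k i)
    (Nat.pos_of_ne_zero fun h => ordSeq_ne_zero (k := k) i (by rw [h, Nat.cast_zero]))).to_subtype

theorem card_tk (i : ℕ) [Fintype (tk (k := k) (B := B) i)] : (Fintype.card (tk (k := k) (B := B) i) : k) ≠ 0 := by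
  intro h0
  obtain ⟨c, hc⟩ := CharP.exists k
  have hdvd := (CharP.cast_eq_zero_iff k c _).1 h0
  rcases CharP.char_is_prime_or_zero k c with hcp | rfl
  · haveI : Fact c.Prime := ⟨hcp⟩
    obtain ⟨x, hx⟩ := exists_prime_orderOf_dvd_card c hdvd
    have hxn : x ^ ordSeq k i = 1 := Subtype.ext x.2
    have hdiv := orderOf_dvd_of_pow_eq_one hxn
    rw [hx] at hdiv
    exact ordSeq_ne_zero i ((CharP.cast_eq_zero_iff k c _).2 hdiv)
  · exact Fintype.card_ne_zero (Nat.eq_zero_of_zero_dvd hdvd)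

end Torsion

omit [Algebra.FiniteType k A] in
/-- A point with separable values fixed by all automorphisms is rational. -/
theorem exists_rational (u : WithConv (A →ₐ[k] 𝕂)) (hs : ∀ a, IsSeparable k (u.ofConv a))
    (hu : ∀ τ : 𝕂 ≃ₐ[k] 𝕂, gal A τ u = u) :
    ∃ u₀ : WithConv (A →ₐ[k] k), push A (Algebra.ofId k 𝕂) u₀ = u := by
  haveI : IsAlgClosure k 𝕂 := ⟨inferInstance, inferInstance⟩
  haveI : Normal k 𝕂 := IsAlgClosure.normal k 𝕂
  have hmem : ∀ a, u.ofConv a ∈ (Algebra.ofId k 𝕂).range := fun a =>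
    mem_range_of_fixed_elem (hs a) fun σ => congrArg (fun t : WithConv (A →ₐ[k] 𝕂) => t.ofConv a) (hu σ)
  let e := AlgEquiv.ofInjective (Algebra.ofId k 𝕂) (algebraMap k 𝕂).injective
  exact ⟨toConv ((e.symm : _ →ₐ[k] k).comp (u.ofConv.codRestrict _ hmem)), WithConv.ofConv_injective (AlgHom.ext fun a =>
    congrArg Subtype.val (e.apply_symm_apply ⟨u.ofConv a, hmem a⟩))⟩

variable (ψ : B →ₐc[k] A) {J : Ideal A} [J.IsHopfIdeal k]
  (hJ : J = Ideal.map (ψ : B →+* A) (RingHom.ker (Bialgebra.counitAlgHom k B))) (r' r'' : A →ₐc[k] B)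

/-- The conclusion of the theorem. -/
abbrev Conj (J : Ideal A) (r' r'' : A →ₐc[k] B) : Prop :=
  ∃ u : A →ₐ[k] k, (∀ a ∈ J, u a = 0) ∧
    (r'' : A →ₐ[k] B) = Dyn.conv3 k A ((Algebra.ofId k B).comp u) (r' : A →ₐ[k] B)
      (((Algebra.ofId k B).comp u).comp (HopfAlgebra.antipodeAlgHom k A))

include hJ in
theorem conj_of_tors [Coalgebra.IsCocomm k B] [IsReduced (𝕂 ⊗[k] B)] (hd : HopfRep.IsDiagonalizable 𝕂 (𝕂 ⊗[k] B))
    (N : ℕ) (u : WithConv (A →ₐ[k] 𝕂)) (hu : pt ψ u = 1) (u₀ : WithConv (A →ₐ[k] k))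
    (hu₀ : push A (Algebra.ofId k 𝕂) u₀ = u)
    (hN : ∀ h ∈ tk (k := k) (B := B) N, pt r'' h = u * pt r' h * u⁻¹)
    (hall : ∀ i, ∃ v, ∀ h ∈ tk (k := k) (B := B) i, pt r'' h = v * pt r' h * v⁻¹)
    (hstab : ∀ M v, N ≤ M → (∀ c ∈ pt r' '' (tk (k := k) (B := B) N : Set (WithConv (B →ₐ[k] 𝕂))), v * c = c * v) →
      ∀ c ∈ pt r' '' (tk (k := k) (B := B) M : Set (WithConv (B →ₐ[k] 𝕂))), v * c = c * v) :
    Conj J r' r'' := by
  have hinj : Function.Injective (push A (Algebra.ofId k 𝕂)) := push_injective (algebraMap k 𝕂).injective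
  have hk : pt ψ u₀ = 1 := push_injective (A := B) (f := Algebra.ofId k 𝕂) (algebraMap k 𝕂).injective (by
    rw [← pt_push, hu₀, hu, map_one])
  refine ⟨u₀.ofConv, fun a ha => ?_, ?_⟩
  · obtain ⟨x, rfl⟩ := exists_quo ψ hJ hk
    show x.ofConv (Ideal.Quotient.mk J a) = 0
    rw [Ideal.Quotient.eq_zero_iff_mem.2 ha, map_zero]
  have htors : ∀ h, Tors h → pt r'' h = u * pt r' h * u⁻¹ := by
    intro h hh
    obtain ⟨i, hi⟩ := exists_tk_of_tors hh
    let M := max i N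
    obtain ⟨v, hv⟩ := hall M
    have hcent : ∀ c ∈ pt r' '' (tk (k := k) (B := B) M : Set (WithConv (B →ₐ[k] 𝕂))), (v⁻¹ * u) * c = c * (v⁻¹ * u) := by
      refine hstab M _ (le_max_right i N) ?_
      rintro _ ⟨g, hg, rfl⟩
      have h1 : v * pt r' g * v⁻¹ = u * pt r' g * u⁻¹ :=
        (hv g (tk_mono (le_max_right i N) hg)).symm.trans (hN g hg)
      calc (v⁻¹ * u) * pt r' g = v⁻¹ * (u * pt r' g * u⁻¹) * u := by group
        _ = v⁻¹ * (v * pt r' g * v⁻¹) * u := by rw [h1]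
        _ = pt r' g * (v⁻¹ * u) := by group
    have hhM : h ∈ tk (k := k) (B := B) M := hi M (le_max_left i N)
    rw [hv h hhM]
    have h2 := hcent _ ⟨h, hhM, rfl⟩
    calc v * pt r' h * v⁻¹ = v * (pt r' h * (v⁻¹ * u)) * u⁻¹ := by group
      _ = v * (v⁻¹ * u * pt r' h) * u⁻¹ := by rw [h2]
      _ = u * pt r' h * u⁻¹ := by group
  apply WithConv.toConv_injective
  rw [Groth.L08.toConv_conv3]
  let c : WithConv (A →ₐ[k] k) →* WithConv (A →ₐ[k] B) := push A (Algebra.ofId k B)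
  show _ = c u₀ * toConv (r' : A →ₐ[k] B) * pinv (c u₀)
  refine WithConv.ofConv_injective (AlgHom.ext fun a => ?_)
  refine Algebra.TensorProduct.includeRight_injective (R := k) (A := 𝕂) (B := B) (algebraMap k 𝕂).injective ?_
  refine sub_eq_zero.1 (eq_zero_of_tors hd fun h hh => ?_)
  rw [map_sub, sub_eq_zero]
  show evK h ((1 : 𝕂) ⊗ₜ[k] _) = evK h ((1 : 𝕂) ⊗ₜ[k] _)
  rw [evK_incl, evK_incl, ← MultDescent.push_apply h.ofConv, ← MultDescent.push_apply h.ofConv, map_mul, map_mul,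
    show MultDescent.push A h.ofConv (pinv (c u₀)) = pinv (MultDescent.push A h.ofConv (c u₀)) from rfl]
  have hc : push A h.ofConv (c u₀) = u := by
    rw [← hu₀]
    exact WithConv.ofConv_injective (AlgHom.ext fun x => h.ofConv.commutes _)
  rw [hc]
  exact congrArg (fun t : WithConv (A →ₐ[k] 𝕂) => t.ofConv a) (htors h hh)

variable (hB : SGA3b.IsMultTypeConst k B) (hU : HopfRep.IsUnipotent k (A ⧸ J)) [Algebra.FormallySmooth k B]
  (hr' : r'.comp ψ = BialgHom.id k B) (hr'' : r''.comp ψ = BialgHom.id k B)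

omit [Algebra.FiniteType k A] [Algebra.FiniteType k B] [J.IsHopfIdeal k] [Algebra.FormallySmooth k B] in
theorem pt_retraction {R : Type u} [CommRing R] [Algebra k R] (r : A →ₐc[k] B) (hr : r.comp ψ = BialgHom.id k B)
    (h : WithConv (B →ₐ[k] R)) : pt ψ (pt r h) = h :=
  WithConv.ofConv_injective (AlgHom.ext fun b => congrArg h.ofConv (congrArg (fun f : B →ₐc[k] B => f b) hr))

include hJ hB hU hr' hr'' in
theorem conj_of_comm [Coalgebra.IsCocomm k (A ⧸ J)] : Conj J r' r'' := by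
  classical
  haveI : IsReduced (𝕂 ⊗[k] B) := Groth.L01.SmoothKer.isReduced_of_formallySmooth (k := 𝕂) inferInstance
  have hd : HopfRep.IsDiagonalizable 𝕂 (𝕂 ⊗[k] B) := isDiagonalizable_algClosure hB
  haveI : Coalgebra.IsCocomm k B := Groth.Agent.S7979.isCocomm_of_diag hd
  haveI : IsAlgClosure k 𝕂 := ⟨inferInstance, inferInstance⟩
  haveI : Normal k 𝕂 := IsAlgClosure.normal k 𝕂
  let p : WithConv (A →ₐ[k] 𝕂) →* WithConv (B →ₐ[k] 𝕂) := pt ψ
  have hcomm : ∀ u v : WithConv (A →ₐ[k] 𝕂), p u = 1 → p v = 1 → u * v = v * u := ker_comm ψ hJ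
  haveI : ∀ i, Fintype (tk (k := k) (B := B) i) := fun i => @Fintype.ofFinite _ (finite_tk hd i)
  have hroot : ∀ i, ∀ u, p u = 1 → ∃! w, p w = 1 ∧ w ^ Fintype.card (tk (k := k) (B := B) i) = u := fun i =>
    ker_root ψ hJ hU (card_tk (k := k) (B := B) i)
  let L := separableClosure k 𝕂
  let Sep : Subgroup (WithConv (A →ₐ[k] 𝕂)) := (push A L.val).range
  have hSep : ∀ g : WithConv (A →ₐ[k] 𝕂), (∀ a, IsSeparable k (g.ofConv a)) → g ∈ Sep := fun g hg =>
    ⟨toConv (g.ofConv.codRestrict L.toSubalgebra fun a => mem_separableClosure_iff.2 (hg a)),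
      WithConv.ofConv_injective (AlgHom.ext fun _ => rfl)⟩
  have hSeproot : ∀ i, ∀ w, p w = 1 → w ^ Fintype.card (tk (k := k) (B := B) i) ∈ Sep → w ∈ Sep := by
    rintro i w hw ⟨x, hx⟩
    have hx1 : pt ψ x = 1 := push_injective (f := L.val) Subtype.val_injective (by
      rw [← pt_push, hx, map_pow, map_one]
      show p w ^ _ = 1
      rw [hw, one_pow])
    obtain ⟨y, ⟨hy, hyn⟩, -⟩ := ker_root ψ hJ hU (card_tk (k := k) (B := B) i) x hx1
    refine ⟨y, (hroot i _ (show p (w ^ Fintype.card (tk (k := k) (B := B) i)) = 1 by rw [map_pow, hw, one_pow])).unique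
      ⟨?_, ?_⟩ ⟨hw, rfl⟩⟩
    · show pt ψ (push A L.val y) = 1
      rw [pt_push, hy, map_one]
    · rw [← map_pow, hyn, hx]
  have hconj : ∀ i, ∃ u, p u = 1 ∧ (∀ h ∈ tk (k := k) (B := B) i, pt r'' h = u * pt r' h * u⁻¹) ∧
      (∀ τ : 𝕂 ≃ₐ[k] 𝕂, gal A τ u = u) ∧ u ∈ Sep := by
    intro i
    obtain ⟨u, hu, huc, huτ, huS⟩ := exists_conj' p hcomm (tk i) (hroot i) ((pt r').comp (tk i).subtype)
      ((pt r'').comp (tk i).subtype) (fun h => pt_retraction ψ r' hr' h.1) (fun h => pt_retraction ψ r'' hr'' h.1)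
    have htors : ∀ h : tk (k := k) (B := B) i, Tors h.1 := fun h => ⟨_, ordSeq_ne_zero i, h.2⟩
    exact ⟨u, hu, fun h hh => huc ⟨h, hh⟩, fun τ => huτ (gal A τ) (gal B τ) (gal_pt ψ τ) (fun h => tk_gal τ i h)
      (fun h => rfl) (fun h => rfl),
      huS Sep (fun h => hSep _ fun a => isSeparable_tors hB (htors h) (r' a))
        (fun h => hSep _ fun a => isSeparable_tors hB (htors h) (r'' a)) (hSeproot i)⟩
  obtain ⟨N, hN⟩ := exists_stable (fun i => pt r' '' (tk (k := k) (B := B) i : Set (WithConv (B →ₐ[k] 𝕂))))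
    (fun i j hij => Set.image_mono (tk_mono hij))
  obtain ⟨u, hu, huc, huτ, ⟨x, hx⟩⟩ := hconj N
  obtain ⟨u₀, hu₀⟩ := exists_rational u (fun a => by rw [← hx]; exact mem_separableClosure_iff.1 (x.ofConv a).2) huτ
  exact conj_of_tors ψ hJ r' r'' hd N u hu u₀ hu₀ huc (fun i => (hconj i).imp fun v hv => hv.2.1) hN

include hJ hB hU hr' hr'' in
theorem conj_of_connected [PerfectField k] (hconn : ∀ e : A ⧸ J, IsIdempotentElem e → e = 0 ∨ e = 1) :
    Conj J r' r'' := by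
  classical
  haveI : IsReduced (𝕂 ⊗[k] B) := Groth.L01.SmoothKer.isReduced_of_formallySmooth (k := 𝕂) inferInstance
  have hd : HopfRep.IsDiagonalizable 𝕂 (𝕂 ⊗[k] B) := isDiagonalizable_algClosure hB
  haveI : Coalgebra.IsCocomm k B := Groth.Agent.S7979.isCocomm_of_diag hd
  haveI : IsAlgClosure k 𝕂 := ⟨inferInstance, inferInstance⟩
  haveI : Normal k 𝕂 := IsAlgClosure.normal k 𝕂
  haveI : Algebra.FiniteType k (A ⧸ J) :=
    Algebra.FiniteType.of_surjective (Ideal.Quotient.mkₐ k J) Ideal.Quotient.mk_surjective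
  haveI : ∀ i, Fintype (tk (k := k) (B := B) i) := fun i => @Fintype.ofFinite _ (finite_tk hd i)
  -- the kernel on points
  let G : Subgroup (WithConv (A →ₐ[k] 𝕂)) := (pt ψ).ker
  haveI : Group.IsNilpotent (WithConv (A ⧸ J →ₐ[k] 𝕂)) := isNilpotent_pts hU
  haveI : Group.IsNilpotent G := by
    refine Group.nilpotent_of_surjective ((quo J).codRestrict G fun x => pt_quo ψ hJ x) ?_
    rintro ⟨g, hg⟩
    obtain ⟨x, hx⟩ := exists_quo ψ hJ (show pt ψ g = 1 from hg)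
    exact ⟨x, Subtype.ext hx⟩
  have hroots : ∀ (R : Type u) [CommRing R] [Algebra k R] (i : ℕ),
      Roots (pt ψ : WithConv (A →ₐ[k] R) →* WithConv (B →ₐ[k] R)).ker (Fintype.card (tk (k := k) (B := B) i)) := by
    intro R _ _ i u
    obtain ⟨w, ⟨hw, hwn⟩, huniq⟩ := ker_root ψ hJ hU (card_tk (k := k) (B := B) i) u.1 u.2
    exact ⟨⟨w, hw⟩, Subtype.ext hwn, fun y hy => Subtype.ext (huniq y.1 ⟨y.2, congrArg Subtype.val hy⟩)⟩
  choose rt hrt using fun (i : ℕ) (g : G) => (hroots 𝕂 i g).exists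
  let act : ∀ i, tk (k := k) (B := B) i →* MulAut G := fun i =>
    MulAut.conjNormal.comp ((pt r').comp (tk i).subtype)
  have hact : ∀ i (h : tk (k := k) (B := B) i) (x : G), (act i h x : WithConv (A →ₐ[k] 𝕂)) = pt r' h.1 * x * (pt r' h.1)⁻¹ :=
    fun i h x => MulAut.conjNormal_apply _ _
  have hfixed : ∀ i (c : tk (k := k) (B := B) i → G), (∀ g h, c (g * h) = c g * act i g (c h)) →
      ∃ m, ∀ x h, dd (fun h => act i h) c ((step (rt i) (fun h => act i h) c)^[m] x) h = 1 :=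
    fun i c hc => iterate_fix G (rt i) (hrt i) (hroots 𝕂 i) (act i) c hc
  -- conjugators
  have hconj : ∀ i, ∃ u : WithConv (A →ₐ[k] 𝕂), pt ψ u = 1 ∧ ∀ h ∈ tk (k := k) (B := B) i, pt r'' h = u * pt r' h * u⁻¹ := by
    intro i
    let c : tk (k := k) (B := B) i → G := fun h => ⟨pt r'' h.1 * (pt r' h.1)⁻¹, by
      show pt ψ _ = 1
      rw [map_mul, map_inv, pt_retraction ψ r'' hr'', pt_retraction ψ r' hr', mul_inv_cancel]⟩
    have hc : ∀ g h, c (g * h) = c g * act i g (c h) := fun g h => Subtype.ext (by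
      rw [Subgroup.coe_mul, hact]
      simp only [c, Subgroup.coe_mul, map_mul, mul_inv_rev]
      group)
    obtain ⟨m, hm⟩ := hfixed i c hc
    let x := (step (rt i) (fun h => act i h) c)^[m] 1
    refine ⟨x.1, x.2, fun h hh => ?_⟩
    have h1 : ((dd (fun h => act i h) c x ⟨h, hh⟩ : G) : WithConv (A →ₐ[k] 𝕂)) = 1 :=
      congrArg Subtype.val (hm 1 ⟨h, hh⟩)
    simp only [dd, Subgroup.coe_mul, Subgroup.coe_inv, hact] at h1
    simp only [c] at h1
    calc pt r'' h = x.1 * (x.1⁻¹ * (pt r'' h * (pt r' h)⁻¹) * (pt r' h * x.1 * (pt r' h)⁻¹)) * pt r' h * x.1⁻¹ := by group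
      _ = x.1 * pt r' h * x.1⁻¹ := by rw [h1, mul_one]
  obtain ⟨N, hN⟩ := exists_stable (fun i => pt r' '' (tk (k := k) (B := B) i : Set (WithConv (B →ₐ[k] 𝕂))))
    (fun i j hij => Set.image_mono (tk_mono hij))
  -- the centraliser
  let W : Set (WithConv (A →ₐ[k] 𝕂)) := {v | pt ψ v = 1 ∧ ∀ h ∈ tk (k := k) (B := B) N, v * pt r' h = pt r' h * v}
  have hW1 : (1 : WithConv (A →ₐ[k] 𝕂)) ∈ W := ⟨map_one _, fun h _ => by rw [one_mul, mul_one]⟩
  have hWmul : ∀ v w, v ∈ W → w ∈ W → v * w ∈ W := fun v w hv hw =>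
    ⟨by rw [map_mul, hv.1, hw.1, one_mul], fun h hh => Commute.mul_left (hv.2 h hh) (hw.2 h hh)⟩
  have hWinv : ∀ v, v ∈ W → v⁻¹ ∈ W := fun v hv =>
    ⟨by rw [map_inv, hv.1, inv_one], fun h hh => Commute.inv_left (hv.2 h hh)⟩
  have hWgal : ∀ (σ : 𝕂 ≃ₐ[k] 𝕂), ∀ w ∈ W, gal A σ w ∈ W := by
    intro σ w hw
    refine ⟨by rw [gal_pt, hw.1, map_one], fun h hh => ?_⟩
    obtain ⟨g, rfl⟩ := (gal B σ).surjective h
    have hr : pt r' (gal B σ g) = gal A σ (pt r' g) := rfl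
    rw [hr, ← map_mul, ← map_mul, hw.2 g ((tk_gal σ N g).1 hh)]
  let I := ptIdeal W
  haveI : IsReduced (A ⧸ I) := isReduced_ptIdeal W
  have hkillJ : ∀ (v : WithConv (A →ₐ[k] 𝕂)), pt ψ v = 1 → ∀ a ∈ J, v.ofConv a = 0 := fun v hv a ha => by
    obtain ⟨x, rfl⟩ := exists_quo ψ hJ hv
    show x.ofConv (Ideal.Quotient.mk J a) = 0
    rw [Ideal.Quotient.eq_zero_iff_mem.2 ha, map_zero]
  have hJI : J ≤ I := fun a ha => mem_ptIdeal.2 fun w hw => hkillJ w hw.1 a ha
  have hclosed : ∀ v : WithConv (A →ₐ[k] 𝕂), (∀ a ∈ I, v.ofConv a = 0) → v ∈ W := by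
    intro v hv
    refine ⟨?_, fun h hh => WithConv.ofConv_injective (AlgHom.ext fun a => sub_eq_zero.1 ?_)⟩
    · have h1 : v = quo J (toConv (Ideal.Quotient.liftₐ J v.ofConv fun a ha => hv a (hJI ha))) :=
        WithConv.ofConv_injective (AlgHom.ext fun a => rfl)
      rw [h1, pt_quo ψ hJ]
    · let Xk : WithConv (A →ₐ[k] 𝕂 ⊗[k] A) := toConv Algebra.TensorProduct.includeRight
      let ι : 𝕂 →ₐ[k] 𝕂 ⊗[k] A := Algebra.TensorProduct.includeLeft
      have hX : ∀ w, MultDescent.push A ((atPt (A := A) w.ofConv).restrictScalars k) Xk = w := fun w =>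
        WithConv.ofConv_injective (AlgHom.ext fun a => by simp [MultDescent.push, atPt, Xk])
      have hι : ∀ (w x : WithConv (A →ₐ[k] 𝕂)),
          MultDescent.push A ((atPt (A := A) w.ofConv).restrictScalars k) (MultDescent.push A ι x) = x := fun w x =>
        WithConv.ofConv_injective (AlgHom.ext fun a => by simp [MultDescent.push, atPt, ι])
      let z := (Xk * MultDescent.push A ι (pt r' h)).ofConv a - (MultDescent.push A ι (pt r' h) * Xk).ofConv a
      have hz : ∀ w, atPt (A := A) w.ofConv z =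
          (w * pt r' h).ofConv a - (pt r' h * w).ofConv a := fun w => by
        have e1 := congrArg (fun t : WithConv (A →ₐ[k] 𝕂) => t.ofConv a)
          (map_mul (MultDescent.push A ((atPt (A := A) w.ofConv).restrictScalars k)) Xk (MultDescent.push A ι (pt r' h)))
        have e2 := congrArg (fun t : WithConv (A →ₐ[k] 𝕂) => t.ofConv a)
          (map_mul (MultDescent.push A ((atPt (A := A) w.ofConv).restrictScalars k)) (MultDescent.push A ι (pt r' h)) Xk)
        rw [hX, hι] at e1 e2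
        rw [map_sub]
        exact congrArg₂ (· - ·) e1 e2
      have h2 := mem_closure (z := z) hWgal (fun w hw => by rw [hz, hw.2 h hh, sub_self]) hv
      rwa [hz] at h2
  haveI : I.IsHopfIdeal k := isHopfIdeal_of_points (K := 𝕂) I
    (fun a ha => (algebraMap k 𝕂).injective (by
      rw [map_zero]
      simpa [AlgHom.convOne_apply] using mem_ptIdeal.1 ha 1 hW1))
    (fun v w hv hw a ha => mem_ptIdeal.1 ha _ (hWmul v w (hclosed v hv) (hclosed w hw)))
    (fun v hv a ha => mem_ptIdeal.1 ha _ (hWinv v (hclosed v hv)))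
  -- the centraliser is the image of an irreducible variety
  obtain ⟨m, hm⟩ := hfixed N (fun _ => 1) (fun g h => by rw [map_one, one_mul])
  haveI : (nilradical (𝕂 ⊗[k] (A ⧸ J))).IsPrime := nilradical_isPrime_baseChange hconn
  obtain ⟨R, _, _, _, _, π₀, hπ₀⟩ : ∃ (R : Type u) (_ : CommRing R) (_ : Algebra 𝕂 R) (_ : Algebra.FiniteType 𝕂 R)
      (_ : IsDomain R) (π₀ : 𝕂 ⊗[k] (A ⧸ J) →ₐ[𝕂] R), ∀ ξ : 𝕂 ⊗[k] (A ⧸ J) →ₐ[𝕂] 𝕂, ∃ ξ' : R →ₐ[𝕂] 𝕂, ∀ x, ξ' (π₀ x) = ξ x :=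
    ⟨(𝕂 ⊗[k] (A ⧸ J)) ⧸ nilradical (𝕂 ⊗[k] (A ⧸ J)), inferInstance, inferInstance,
      Algebra.FiniteType.of_surjective (Ideal.Quotient.mkₐ 𝕂 _) Ideal.Quotient.mk_surjective,
      Ideal.Quotient.isDomain _, Ideal.Quotient.mkₐ 𝕂 _, fun ξ =>
        ⟨Ideal.Quotient.liftₐ _ ξ fun y hy => ((mem_nilradical.1 hy).map ξ).eq_zero, fun x => rfl⟩⟩
  letI : Algebra k R := ((algebraMap 𝕂 R).comp (algebraMap k 𝕂)).toAlgebra
  haveI : IsScalarTower k 𝕂 R := IsScalarTower.of_algebraMap_eq fun c => rfl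
  let GR : Subgroup (WithConv (A →ₐ[k] R)) := (pt ψ).ker
  let cR : WithConv (A →ₐ[k] 𝕂) →* WithConv (A →ₐ[k] R) := MultDescent.push A (IsScalarTower.toAlgHom k 𝕂 R)
  choose rtR hrtR using fun g : GR => (hroots R N g).exists
  let actR : tk (k := k) (B := B) N →* MulAut GR := MulAut.conjNormal.comp (cR.comp ((pt r').comp (tk N).subtype))
  let X : GR := ⟨quo J (toConv ((π₀.restrictScalars k).comp Algebra.TensorProduct.includeRight)),
    pt_quo ψ hJ _⟩
  let Y : GR := (step rtR (fun h => actR h) (fun _ => 1))^[m] X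
  let pR : (R →ₐ[𝕂] 𝕂) → GR →* G := fun ξ =>
    ((MultDescent.push A (ξ.restrictScalars k)).comp GR.subtype).codRestrict G fun g => by
      show pt ψ (MultDescent.push A (ξ.restrictScalars k) g.1) = 1
      rw [pt_push, show pt ψ g.1 = 1 from g.2, map_one]
  have hspec : ∀ ξ : R →ₐ[𝕂] 𝕂, pR ξ Y = (step (rt N) (fun h => act N h) (fun _ => 1))^[m] (pR ξ X) := fun ξ => by
    refine Function.Semiconj.iterate_right (f := pR ξ) (fun g => step_map (pR ξ) ?_ ?_ (fun _ => map_one _) g) m X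
    · intro g
      exact (hroots 𝕂 N (pR ξ g)).unique (by rw [← map_pow, hrtR]) (hrt N _)
    · intro h g
      refine Subtype.ext ?_
      show MultDescent.push A (ξ.restrictScalars k) (actR h g).1 = _
      rw [hact, show (actR h g).1 = cR (pt r' h.1) * g.1 * (cR (pt r' h.1))⁻¹ from MulAut.conjNormal_apply _ _,
        map_mul, map_mul, map_inv]
      have hc : MultDescent.push A (ξ.restrictScalars k) (cR (pt r' h.1)) = pt r' h.1 :=
        WithConv.ofConv_injective (AlgHom.ext fun a => ξ.commutes _)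
      rw [hc]
      rfl
  have hYW : ∀ ξ : R →ₐ[𝕂] 𝕂, (pR ξ Y).1 ∈ W := fun ξ => by
    refine ⟨(pR ξ Y).2, fun h hh => ?_⟩
    have h1 : ((dd (fun h => act N h) (fun _ => 1) (pR ξ Y) ⟨h, hh⟩ : G) : WithConv (A →ₐ[k] 𝕂)) = 1 := by
      rw [hspec]
      exact congrArg Subtype.val (hm _ ⟨h, hh⟩)
    simp only [dd, Subgroup.coe_mul, Subgroup.coe_inv, hact, Subgroup.coe_one, mul_one] at h1
    have h2 := inv_mul_eq_one.1 h1
    calc (pR ξ Y).1 * pt r' h = pt r' h * (pR ξ Y).1 * (pt r' h)⁻¹ * pt r' h := by rw [← h2]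
      _ = pt r' h * (pR ξ Y).1 := by group
  have hYI : ∀ a ∈ I, Y.1.ofConv a = 0 := fun a ha =>
    Groth.L08.Cube.NP.eq_zero_of_forall_point (k := 𝕂) fun ξ => mem_ptIdeal.1 ha _ (hYW ξ)
  let φ : 𝕂 ⊗[k] (A ⧸ I) →ₐ[𝕂] R :=
    Algebra.TensorProduct.lift (Algebra.ofId 𝕂 R) (Ideal.Quotient.liftₐ I Y.1.ofConv hYI) fun _ _ => Commute.all _ _
  haveI : Algebra.FiniteType k (A ⧸ I) :=
    Algebra.FiniteType.of_surjective (Ideal.Quotient.mkₐ k I) Ideal.Quotient.mk_surjective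
  have hφ : Function.Injective φ := by
    refine (injective_iff_map_eq_zero φ).2 fun z hz => eq_zero_of_points fun v => ?_
    let w : WithConv (A →ₐ[k] 𝕂) := toConv (v.comp (Ideal.Quotient.mkₐ k I))
    have hw : w ∈ W := hclosed w fun a ha => by
      show v (Ideal.Quotient.mk I a) = 0
      rw [Ideal.Quotient.eq_zero_iff_mem.2 ha, map_zero]
    let wb := atPt (A := A ⧸ J) (Ideal.Quotient.liftₐ J w.ofConv (hkillJ w hw.1))
    obtain ⟨ξ, hξ⟩ := hπ₀ wb
    have hξX : (pR ξ X).1 = w := WithConv.ofConv_injective (AlgHom.ext fun a => by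
      show ξ (π₀ ((1 : 𝕂) ⊗ₜ[k] Ideal.Quotient.mk J a)) = _
      rw [hξ, atPt_tmul, one_mul]
      rfl)
    have hξY : (pR ξ Y).1 = w := by
      rw [hspec, Function.iterate_fixed ?_, hξX]
      refine step_of_fix (hroots 𝕂 N) (hrt N) fun h => Subtype.ext ?_
      simp only [dd, Subgroup.coe_mul, Subgroup.coe_inv, hact, Subgroup.coe_one, mul_one, hξX]
      rw [← hw.2 h.1 h.2]
      group
    have hall : ∀ y, ξ (φ y) = atPt v y := by
      intro y
      induction y with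
      | zero => simp
      | add x y hx hy => simp only [map_add, hx, hy]
      | tmul c q =>
        obtain ⟨a, rfl⟩ := Ideal.Quotient.mk_surjective q
        rw [atPt_tmul]
        show ξ (algebraMap 𝕂 R c * Y.1.ofConv a) = c * w.ofConv a
        rw [map_mul, AlgHom.commutes, ← hξY]
        rfl
    rw [← hall, hz, map_zero]
  have hdom : IsDomain (𝕂 ⊗[k] (A ⧸ I)) := Function.Injective.isDomain φ.toRingHom hφ
  have hUI : HopfRep.IsUnipotent k (A ⧸ I) :=
    UnipSplit.isUnipotent_quotient (BialgHom.id k A) Function.surjective_id J I (fun a ha => hJI ha) hU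
  -- descent
  obtain ⟨u, hu, huc⟩ := hconj N
  have hz : ∀ τ : 𝕂 ≃ₐ[k] 𝕂, ∀ a ∈ I, (pinv u * gal A τ u).ofConv a = 0 := by
    intro τ a ha
    refine mem_ptIdeal.1 ha (u⁻¹ * gal A τ u) ⟨by rw [map_mul, map_inv, gal_pt, hu, map_one, inv_one, one_mul], fun h hh => ?_⟩
    obtain ⟨g, rfl⟩ := (gal B τ).surjective h
    have h1 := congrArg (gal A τ) (huc g ((tk_gal τ N g).1 hh))
    rw [map_mul, map_mul, map_inv, show gal A τ (pt r'' g) = pt r'' (gal B τ g) from rfl,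
      show gal A τ (pt r' g) = pt r' (gal B τ g) from rfl, huc _ hh] at h1
    set H := pt r' (gal B τ g)
    calc u⁻¹ * gal A τ u * H = u⁻¹ * (gal A τ u * H * (gal A τ u)⁻¹) * gal A τ u := by group
      _ = u⁻¹ * (u * H * u⁻¹) * gal A τ u := by rw [h1]
      _ = H * (u⁻¹ * gal A τ u) := by group
  obtain ⟨v, hv, hfix⟩ := exists_fixed I hdom hUI u hz
  have hvW := hclosed v hv
  haveI : Algebra.IsAlgebraic k 𝕂 := Normal.toIsAlgebraic
  obtain ⟨u₀, hu₀⟩ := exists_rational (u * v) (fun a => Algebra.IsSeparable.isSeparable k _) hfix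
  refine conj_of_tors ψ hJ r' r'' hd N (u * v) (by rw [map_mul, hu, hvW.1, one_mul]) u₀ hu₀ (fun h hh => ?_)
    (fun i => (hconj i).imp fun v hv => hv.2) hN
  rw [huc h hh]
  calc u * pt r' h * u⁻¹ = u * (pt r' h * v) * v⁻¹ * u⁻¹ := by group
    _ = u * (v * pt r' h) * v⁻¹ * u⁻¹ := by rw [hvW.2 h hh]
    _ = u * v * pt r' h * (u * v)⁻¹ := by group

end Groth.L01.MultConj
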