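import Groth.Agent.L01.MultConj.Descent
import Groth.Agent.L01.MultDescent.Main
import Groth.Agent.L08.FlagGroup
import Groth.Agent.L08.KrullHopf

/-!
# Points with values in an algebraic closure and the ideals they define
-/

set_option autoImplicit false

universe u

open TensorProduct WithConv Groth.L08 Groth.L01.MultByUnip Groth.L01.MultDescent

attribute [local instance] Groth.L01.MultDescent.ptGroup

noncomputable section

namespace Groth.L01.MultConj

variable {k : Type u} [Field k] {K : Type u} [Field K] [Algebra k K]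
variable {A : Type u} [CommRing A] [HopfAlgebra k A]

/-- A point of the base change gives a point. -/
def resPt : WithConv (K ⊗[k] A →ₐ[K] K) →* WithConv (A →ₐ[k] K) :=
  MonoidHom.mk'
    (fun v : WithConv (K ⊗[k] A →ₐ[K] K) =>
      (toConv ((v.ofConv.restrictScalars k).comp Algebra.TensorProduct.includeRight) : WithConv (A →ₐ[k] K)))
    fun v w => WithConv.ofConv_injective (AlgHom.ext fun a => by
      show (v * w).ofConv ((1 : K) ⊗ₜ[k] a) = _
      rw [AlgHom.convMul_apply, AlgHom.convMul_apply, Groth.Agent.S7966.comul_one_tmul]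
      induction Coalgebra.comul (R := k) a with
      | zero => simp
      | add x y hx hy => simp only [map_add, TensorProduct.tmul_add, hx, hy]
      | tmul x y => rfl)

theorem resPt_apply (v : WithConv (K ⊗[k] A →ₐ[K] K)) (a : A) :
    (resPt v).ofConv a = v.ofConv ((1 : K) ⊗ₜ[k] a) := rfl

theorem resPt_atPt (v : WithConv (A →ₐ[k] K)) : resPt (toConv (atPt v.ofConv)) = v :=
  WithConv.ofConv_injective (AlgHom.ext fun a => by simp [resPt_apply, atPt_tmul])

theorem atPt_resPt (v : WithConv (K ⊗[k] A →ₐ[K] K)) : atPt (resPt v).ofConv = v.ofConv :=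
  Algebra.TensorProduct.ext (Algebra.ext_id _ _ _) (AlgHom.ext fun a => by simp [atPt_tmul, resPt_apply])

theorem resPt_surjective : Function.Surjective (resPt : WithConv (K ⊗[k] A →ₐ[K] K) → WithConv (A →ₐ[k] K)) :=
  fun v => ⟨_, resPt_atPt v⟩

theorem atPt_mul (v w : WithConv (A →ₐ[k] K)) :
    (toConv (atPt (v * w).ofConv) : WithConv (K ⊗[k] A →ₐ[K] K)) = toConv (atPt v.ofConv) * toConv (atPt w.ofConv) := by
  conv_lhs => rw [← resPt_atPt v, ← resPt_atPt w, ← map_mul, atPt_resPt]

/-- The points of a unipotent group form a nilpotent group. -/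
theorem isNilpotent_pts [Algebra.FiniteType k A] (hU : HopfRep.IsUnipotent k A) :
    Group.IsNilpotent (WithConv (A →ₐ[k] K)) := by
  haveI : Group.IsNilpotent (WithConv (K ⊗[k] A →ₐ[K] K)) :=
    Groth.L08.isNilpotent_points ((Groth.Agent.S7951.result k K A).1 hU)
  exact Group.nilpotent_of_surjective (resPt (k := k) (K := K) (A := A)) resPt_surjective

theorem atPt_conjT (τ : K ≃ₐ[k] K) (w : WithConv (A →ₐ[k] K)) (z : K ⊗[k] A) :
    atPt (gal A τ w).ofConv (conjT K A τ z) = τ (atPt w.ofConv z) := by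
  induction z with
  | zero => simp
  | add x y hx hy => simp only [map_add, hx, hy]
  | tmul c b => simp [atPt_tmul, conjT, gal_apply]

/-- The ideal of functions vanishing on a set of points. -/
def ptIdeal (W : Set (WithConv (A →ₐ[k] K))) : Ideal A := ⨅ w ∈ W, RingHom.ker w.ofConv

theorem mem_ptIdeal {W : Set (WithConv (A →ₐ[k] K))} {a : A} : a ∈ ptIdeal W ↔ ∀ w ∈ W, w.ofConv a = 0 := by
  simp only [ptIdeal, Submodule.mem_iInf, RingHom.mem_ker]

theorem isReduced_ptIdeal (W : Set (WithConv (A →ₐ[k] K))) : IsReduced (A ⧸ ptIdeal W) :=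
  ⟨fun x ⟨n, hn⟩ => by
    obtain ⟨a, rfl⟩ := Ideal.Quotient.mk_surjective x
    rw [← map_pow, Ideal.Quotient.eq_zero_iff_mem, mem_ptIdeal] at hn
    rw [Ideal.Quotient.eq_zero_iff_mem, mem_ptIdeal]
    intro w hw
    have h := hn w hw
    rw [map_pow] at h
    exact (pow_eq_zero_iff'.1 h).1⟩

variable [Normal k K] [PerfectField k]

/-- Equations of a stable set of points hold on all points killing its ideal. -/
theorem mem_closure {W : Set (WithConv (A →ₐ[k] K))} (hW : ∀ (σ : K ≃ₐ[k] K), ∀ w ∈ W, gal A σ w ∈ W)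
    {z : K ⊗[k] A} (hz : ∀ w ∈ W, atPt w.ofConv z = 0) {v : WithConv (A →ₐ[k] K)}
    (hv : ∀ a ∈ ptIdeal W, v.ofConv a = 0) : atPt v.ofConv z = 0 := by
  let V : Submodule K (K ⊗[k] A) :=
    { carrier := {z | ∀ w ∈ W, atPt w.ofConv z = 0}
      add_mem' := fun hx hy w hw => by rw [map_add, hx w hw, hy w hw, add_zero]
      zero_mem' := fun w _ => map_zero _
      smul_mem' := fun c x hx w hw => by rw [map_smul, hx w hw, smul_zero] }
  have hstable : ∀ (σ : K ≃ₐ[k] K), ∀ x ∈ V, conjT K A σ x ∈ V := by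
    intro σ x hx w hw
    have h1 : gal A σ (gal A σ.symm w) = w := WithConv.ofConv_injective (AlgHom.ext fun a => σ.apply_symm_apply _)
    rw [← h1, atPt_conjT, hx _ (hW _ _ hw), map_zero]
  have h := mem_span_fixed V hstable (z := z) hz
  clear hz
  induction h using Submodule.span_induction with
  | mem x hx =>
    obtain ⟨hxV, a, rfl⟩ := hx
    rw [atPt_tmul, one_mul]
    refine hv a (mem_ptIdeal.2 fun w hw => ?_)
    have := hxV w hw
    rwa [atPt_tmul, one_mul] at this
  | zero => exact map_zero _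
  | add x y _ _ hx hy =>
    rw [map_add, hx, hy, add_zero]
  | smul c x _ hx => rw [map_smul, hx, smul_zero]

end Groth.L01.MultConj
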