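import Groth.Agent.L01.MultConj.Pts
import Groth.Agent.L01.DimOne.Ga
import Groth.Agent.L22.AffineDim
import Mathlib.RingTheory.KrullDimension.PID

/-!
# Functions with finitely many translates under the kernel of an additive function
-/

set_option autoImplicit false

universe u

open TensorProduct WithConv Groth.L08 Groth.L01.MultDescent Polynomial
open Groth.L01.SmoothKer (IsPrim)

attribute [local instance] Groth.L01.MultDescent.ptGroup

noncomputable section

namespace Groth.L01.MultConj

variable {K : Type u} [Field K] [IsAlgClosed K] {A : Type u} [CommRing A] [HopfAlgebra K A] [Algebra.FiniteType K A]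

/-- Right translation by a point. -/
def trR (v : WithConv (A →ₐ[K] K)) : A →ₐ[K] A :=
  ((toConv (AlgHom.id K A) : WithConv (A →ₐ[K] A)) * push A (Algebra.ofId K A) v).ofConv

omit [IsAlgClosed K] [Algebra.FiniteType K A] in
theorem toConv_comp_trR {R : Type u} [CommRing R] [Algebra K R] (x : A →ₐ[K] R) (v : WithConv (A →ₐ[K] K)) :
    (toConv (x.comp (trR v)) : WithConv (A →ₐ[K] R)) = toConv x * push A (Algebra.ofId K R) v := by
  rw [trR, UnipSplit.post_mul]
  congr 1
  exact WithConv.ofConv_injective (AlgHom.ext fun a => x.commutes _)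

omit [IsAlgClosed K] [Algebra.FiniteType K A] in
theorem trR_mul (v w : WithConv (A →ₐ[K] K)) : (trR v).comp (trR w) = trR (v * w) := by
  refine WithConv.toConv_injective ?_
  rw [toConv_comp_trR]
  conv_lhs => rw [trR, toConv_ofConv]
  rw [mul_assoc, ← map_mul, trR, toConv_ofConv]

omit [IsAlgClosed K] [Algebra.FiniteType K A] in
theorem trR_one : trR (1 : WithConv (A →ₐ[K] K)) = AlgHom.id K A := by
  rw [trR, map_one, mul_one]


omit [IsAlgClosed K] [Algebra.FiniteType K A] in
theorem point_trR (x : A →ₐ[K] K) (v : WithConv (A →ₐ[K] K)) (a : A) :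
    x (trR v a) = (toConv x * v).ofConv a := by
  have h := toConv_comp_trR x v
  have h2 : push A (Algebra.ofId K K) v = v := WithConv.ofConv_injective (AlgHom.ext fun a => rfl)
  rw [h2] at h
  exact congrArg (fun t : WithConv (A →ₐ[K] K) => t.ofConv a) h

/-- A function with finitely many translates under the kernel of an additive function is integral over it. -/
theorem isIntegral_of_finite [IsReduced A] {F : A} (hF : IsPrim (k := K) F) [IsReduced (A ⧸ Ideal.span {F})]
    (b : A) (hfin : ((fun w => trR w b) '' {w : WithConv (A →ₐ[K] K) | w.ofConv F = 0}).Finite) :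
    IsIntegral (Algebra.adjoin K {F}) b := by
  classical
  let W := {w : WithConv (A →ₐ[K] K) | w.ofConv F = 0}
  let S := hfin.toFinset
  let P : A[X] := ∏ s ∈ S, (X - C s)
  have hadd : ∀ v w : WithConv (A →ₐ[K] K), (v * w).ofConv F = v.ofConv F + w.ofConv F :=
    fun v w => by
      rw [AlgHom.convMul_apply, show Coalgebra.comul (R := K) F = _ from hF]
      simp
  have hinj : ∀ v : WithConv (A →ₐ[K] K), Function.Injective (trR v) := fun v => by
    refine Function.LeftInverse.injective (g := trR (pinv v)) fun x => ?_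
    show (trR (pinv v)).comp (trR v) x = x
    rw [trR_mul, Groth.L08.pinv_mul, trR_one]
    rfl
  have hfix : ∀ v ∈ W, ∀ i, trR v (P.coeff i) = P.coeff i := by
    intro v hv i
    have hmap : S.image (trR v) = S := by
      refine Finset.eq_of_subset_of_card_le (fun x hx => ?_) (le_of_eq (Finset.card_image_of_injective _ ?_).symm)
      · obtain ⟨y, hy, rfl⟩ := Finset.mem_image.1 hx
        obtain ⟨w, hw, rfl⟩ := hfin.mem_toFinset.1 hy
        refine hfin.mem_toFinset.2 ⟨v * w, ?_, ?_⟩
        · show (v * w).ofConv F = 0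
          rw [hadd, (hv : v.ofConv F = 0), (hw : w.ofConv F = 0), add_zero]
        · show trR (v * w) b = trR v (trR w b)
          rw [← trR_mul]
          rfl
      · exact hinj v
    rw [← AlgHom.coe_toRingHom, ← Polynomial.coeff_map]
    congr 1
    rw [Polynomial.map_prod]
    conv_rhs => rw [show P = ∏ s ∈ S, (X - C s) from rfl, ← hmap]
    rw [Finset.prod_image (fun x _ y _ h => ?_)]
    · simp
    · exact hinj v h
  have hcoeff : ∀ i, P.coeff i ∈ Algebra.adjoin K {F} := by
    intro i
    refine DimOne.mem_adjoin_of_fixed hF (sub_eq_zero.1 (eq_zero_of_points₂ (k := K) (K := K) fun x y => ?_))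
    let π := Ideal.Quotient.mkₐ K (Ideal.span {F})
    have hy : (toConv (y.comp π) : WithConv (A →ₐ[K] K)) ∈ W := by
      show y (π F) = 0
      rw [show π F = 0 from Ideal.Quotient.eq_zero_iff_mem.2 (Ideal.mem_span_singleton_self F), map_zero]
    have h1 : Algebra.TensorProduct.lift x y (fun _ _ => Commute.all _ _)
        (TensorProduct.map LinearMap.id π.toLinearMap (Coalgebra.comul (R := K) (P.coeff i))) =
        (toConv x * toConv (y.comp π)).ofConv (P.coeff i) := by
      rw [AlgHom.convMul_apply]
      induction Coalgebra.comul (R := K) (P.coeff i) with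
      | zero => simp
      | add p q hp hq => simp only [map_add, hp, hq]
      | tmul p q => simp
    rw [map_sub, sub_eq_zero, h1, ← point_trR, hfix _ hy]
    simp
  haveI : Nontrivial A := (Bialgebra.counitAlgHom K A).toRingHom.domain_nontrivial
  have hmonic : P.Monic := monic_prod_of_monic _ _ fun s _ => monic_X_sub_C s
  have hlift : P ∈ Polynomial.lifts (algebraMap (Algebra.adjoin K {F}) A) :=
    (Polynomial.lifts_iff_coeff_lifts P).2 fun i => ⟨⟨_, hcoeff i⟩, rfl⟩
  obtain ⟨Q, hQ, -, hQm⟩ := Polynomial.lifts_and_degree_eq_and_monic hlift hmonic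
  refine ⟨Q, hQm, ?_⟩
  rw [Polynomial.eval₂_eq_eval_map, hQ, Polynomial.eval_prod]
  refine Finset.prod_eq_zero (i := b) (hfin.mem_toFinset.2 ⟨1, ?_, ?_⟩) (by simp)
  · show (1 : WithConv (A →ₐ[K] K)).ofConv F = 0
    rw [AlgHom.convOne_apply, hF.counit, map_zero]
  · show trR 1 b = b
    rw [trR_one]
    rfl

omit [IsAlgClosed K] [HopfAlgebra K A] [Algebra.FiniteType K A] in
/-- An algebra integral over one element has dimension at most one. -/
theorem krullDimLE_one_of_isIntegral [Algebra K A] (F : A) (h : ∀ a : A, IsIntegral (Algebra.adjoin K {F}) a) :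
    Ring.KrullDimLE 1 A := by
  haveI : Algebra.IsIntegral (Algebra.adjoin K {F}) A := ⟨h⟩
  have hs : Function.Surjective ((Polynomial.aeval (R := K) F).codRestrict (Algebra.adjoin K {F})
      fun p => Polynomial.aeval_mem_adjoin_singleton K F) := by
    rintro ⟨x, hx⟩
    rw [Algebra.adjoin_singleton_eq_range_aeval] at hx
    obtain ⟨p, hp⟩ := hx
    exact ⟨p, Subtype.ext hp⟩
  rw [Ring.krullDimLE_iff, Groth.L22.AffineDim.ringKrullDim_eq_of_isIntegral (R := Algebra.adjoin K {F})
    Subtype.val_injective]
  refine (ringKrullDim_le_of_surjective _ hs).trans ?_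
  exact Ring.krullDimLE_iff.1 inferInstance

end Groth.L01.MultConj
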